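import Cfsg.Agent.PSpLocal.Model

/-!
# The centraliser of a central element of a Sylow subgroup of `PSp(4, q)`

It is isomorphic to the stabiliser of a vector in `Sp(4, q)`.
-/

set_option autoImplicit false
set_option linter.unusedSectionVars false

namespace CfsgLib.PSpLocal

open Matrix CfsgLib.Forms CfsgLib.Forms4 CfsgLib.AutPSp

variable {F : Type*} [Field F]

local notation "V" => Fin 2 ⊕ Fin 2 → F
local notation "SP" => Matrix.symplecticGroup (Fin 2) F

theorem sympForm_e₀ (u : V) : Cfsg.sympForm 2 F u e₀ = u (Sum.inr 0) := sympForm_single_inl u 0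

/-- An element of the centre fixing `e₀` is trivial. -/
theorem eq_one_of_center {A : SP} (h : A ∈ Subgroup.center SP) (he : A.1 *ᵥ e₀ = e₀) : A = 1 := by
  obtain ⟨r, hr⟩ := mem_center_iff.1 h
  have h0 := congrFun he (Sum.inl 0)
  rw [hr, Matrix.smul_mulVec, Matrix.one_mulVec] at h0
  simp [e₀] at h0
  exact Subtype.ext (by rw [hr, h0, one_smul]; rfl)

theorem eq_of_spTransv_eq {c d : F} (h : spTransv (e₀ : V) c = spTransv e₀ d) : c = d := by
  have h1 := congrFun (congrArg (fun B : SP => B.1 *ᵥ (Pi.single (Sum.inr 0) 1 : V)) h) (Sum.inl 0)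
  simp only [spTransv_mulVec, sympForm_e₀] at h1
  simpa [e₀] using h1

theorem exists_neg_center : ∃ z : SP, z ∈ Subgroup.center SP ∧ ∀ v : V, z.1 *ᵥ v = -v := by
  obtain ⟨z, hz⟩ := exists_sp_of_linearMap (m := 2) (F := F) (-LinearMap.id) fun u v => by
    simp only [LinearMap.neg_apply, LinearMap.id_coe, id_eq]
    rw [← neg_one_smul F u, ← neg_one_smul F v, sympForm_smul_left, sympForm_smul_right]
    ring
  refine ⟨z, Subgroup.mem_center_iff.2 fun A => sp_ext fun x => ?_, fun v => hz v⟩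
  rw [coe_mul_mulVec, coe_mul_mulVec, hz, hz]
  simp [Matrix.mulVec_neg]

variable [Fintype F] {p n : ℕ} [Fact p.Prime]

/-- The stabiliser of a vector maps isomorphically onto the centraliser of `x`. -/
theorem exists_equiv_centralizer [CharP F p] (hp2 : p ≠ 2) (x : Cfsg.PSp 2 F) (hx : orderOf x = p)
    (Px : Sylow p (Cfsg.PSp 2 F)) (hxP : x ∈ (Px : Subgroup (Cfsg.PSp 2 F)))
    (hxc : ∀ y ∈ (Px : Subgroup (Cfsg.PSp 2 F)), y * x = x * y) :
    Nonempty (Se F ≃* Subgroup.centralizer ({x} : Set (Cfsg.PSp 2 F))) := by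
  classical
  obtain ⟨S, z, hz, hzc, rfl⟩ := exists_lift_sylow_center p (m := 2) (by norm_num) Px hxP hxc
  have hz1 : z ≠ 1 := by
    rintro rfl
    rw [QuotientGroup.mk_one, orderOf_one] at hx
    exact (Fact.out : p.Prime).one_lt.ne hx
  obtain ⟨w, k, hw, hk, rfl⟩ := sylow_center_odd p (by norm_num) hp2 S hz hzc hz1
  obtain ⟨B, hB⟩ := exists_mulVec_eq (e₀_ne (F := F)) hw
  have hmem : ∀ A : Se F, (QuotientGroup.mk (B * A.1 * B⁻¹) : Cfsg.PSp 2 F) ∈
      Subgroup.centralizer ({(QuotientGroup.mk (spTransv w k) : Cfsg.PSp 2 F)} :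
        Set (Cfsg.PSp 2 F)) := by
    intro A
    rw [Subgroup.mem_centralizer_singleton_iff, ← QuotientGroup.mk_mul, ← QuotientGroup.mk_mul]
    have h := conj_spTransv (B * A.1 * B⁻¹) w k
    rw [show (B * A.1 * B⁻¹).1 *ᵥ w = w by
      rw [← hB, coe_mul_mulVec, inv_mulVec, coe_mul_mulVec, A.2], mul_inv_eq_iff_eq_mul] at h
    rw [h]
  let f : Se F →* Subgroup.centralizer ({(QuotientGroup.mk (spTransv w k) : Cfsg.PSp 2 F)} :
      Set (Cfsg.PSp 2 F)) := MonoidHom.mk' (fun A => ⟨_, hmem A⟩) fun A A' => Subtype.ext (by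
    simp only [Subgroup.coe_mul, ← QuotientGroup.mk_mul]
    exact congrArg QuotientGroup.mk (by group))
  refine ⟨MulEquiv.ofBijective f ⟨?_, ?_⟩⟩
  · rw [injective_iff_map_eq_one]
    intro A hA
    have h : (QuotientGroup.mk (B * A.1 * B⁻¹) : Cfsg.PSp 2 F) = 1 := congrArg Subtype.val hA
    rw [QuotientGroup.eq_one_iff] at h
    have h2 := Subgroup.Normal.conj_mem inferInstance _ h B⁻¹
    have h3 : A.1 ∈ Subgroup.center SP := by simpa [mul_assoc] using h2
    exact Subtype.ext (eq_one_of_center h3 A.2)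
  · rintro ⟨y, hy⟩
    obtain ⟨A, rfl⟩ := QuotientGroup.mk_surjective y
    rw [Subgroup.mem_centralizer_singleton_iff, ← mul_inv_eq_iff_eq_mul, ← QuotientGroup.mk_inv,
      ← QuotientGroup.mk_mul, ← QuotientGroup.mk_mul, conj_spTransv] at hy
    have heq := eq_of_mkT_eq p (m := 2) (by norm_num) (w := A.1 *ᵥ w) (v := w) (c := k) (d := k) hy
    obtain ⟨t, ht⟩ := line_of_spTransv_eq hw hk heq.symm
    set A₀ := B⁻¹ * A * B with hA₀
    have hA₀e : A₀.1 *ᵥ e₀ = t • e₀ := by
      rw [hA₀, coe_mul_mulVec, coe_mul_mulVec, hB, ht, Matrix.mulVec_smul, ← hB, inv_mulVec]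
    have h4 : spTransv (e₀ : V) (t ^ 2 * k) = spTransv e₀ k := by
      rw [← spTransv_smul, ← hA₀e, ← conj_spTransv]
      have h5 : B⁻¹ * spTransv w k * B = spTransv e₀ k := by
        rw [← hB, ← conj_spTransv]; group
      calc A₀ * spTransv e₀ k * A₀⁻¹ = B⁻¹ * (A * spTransv w k * A⁻¹) * B := by rw [← h5, hA₀]; group
        _ = B⁻¹ * spTransv w k * B := by rw [conj_spTransv, heq]
        _ = spTransv e₀ k := h5
    have ht2 : t = 1 ∨ t = -1 := by
      have h5 := mul_right_cancel₀ hk (a := t ^ 2) (c := (1 : F))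
        (by rw [one_mul]; exact eq_of_spTransv_eq h4)
      exact sq_eq_one_iff.1 h5
    rcases ht2 with rfl | rfl
    · refine ⟨⟨A₀, by rw [mem_Se, hA₀e, one_smul]⟩, Subtype.ext ?_⟩
      change (QuotientGroup.mk (B * A₀ * B⁻¹) : Cfsg.PSp 2 F) = QuotientGroup.mk A
      rw [hA₀]
      exact congrArg QuotientGroup.mk (by group)
    · obtain ⟨zn, hzn, hznv⟩ := exists_neg_center (F := F)
      refine ⟨⟨zn * A₀, by rw [mem_Se, coe_mul_mulVec, hA₀e, hznv, neg_smul, one_smul, neg_neg]⟩,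
        Subtype.ext ?_⟩
      change (QuotientGroup.mk (B * (zn * A₀) * B⁻¹) : Cfsg.PSp 2 F) = QuotientGroup.mk A
      rw [QuotientGroup.eq]
      have h6 : (B * (zn * A₀) * B⁻¹)⁻¹ * A = zn⁻¹ := by
        rw [← mul_assoc B zn, Subgroup.mem_center_iff.1 hzn B, hA₀]
        calc (zn * B * (B⁻¹ * A * B) * B⁻¹)⁻¹ * A = A⁻¹ * zn⁻¹ * A := by group
          _ = zn⁻¹ := by
            rw [Subgroup.mem_center_iff.1 (inv_mem hzn) A⁻¹, inv_mul_cancel_right]
      rw [h6]
      exact inv_mem hzn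

/-- The centraliser of `α` as a copy of the stabiliser of a vector, normalised at a Sylow subgroup. -/
theorem exists_embedding [CharP F p] (hn : 1 ≤ n) (hF : Fintype.card F = p ^ n) (hp2 : p ≠ 2)
    (x : Cfsg.PSp 2 F) (hx : orderOf x = p) (Px : Sylow p (Cfsg.PSp 2 F))
    (hxP : x ∈ (Px : Subgroup (Cfsg.PSp 2 F))) (hxc : ∀ y ∈ (Px : Subgroup (Cfsg.PSp 2 F)), y * x = x * y)
    {G : Type*} [Group G] [Finite G] (α : G) (hα : orderOf α = p)
    (e : ↥(Subgroup.centralizer ({α} : Set G)) ≃* ↥(Subgroup.centralizer ({x} : Set (Cfsg.PSp 2 F))))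
    (P : Sylow p G) (hP : (P : Subgroup G) ≤ Subgroup.centralizer ({α} : Set G)) :
    ∃ j : Se F →* G, Function.Injective j ∧ j.range = Subgroup.centralizer ({α} : Set G) ∧
      (P : Subgroup G) = (P₀ F).map j ∧ ∃ k : F, α = j (mA 0 k 0) ∧ k ≠ 0 := by
  classical
  haveI : Finite SP := Subtype.finite
  obtain ⟨ψ⟩ := exists_equiv_centralizer hp2 x hx Px hxP hxc
  let j₀ : Se F ≃* ↥(Subgroup.centralizer ({α} : Set G)) := ψ.trans e.symm
  let P' : Sylow p (Se F) := (P.subtype hP).mapSurjective (f := j₀.symm.toMonoidHom) j₀.symm.surjective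
  obtain ⟨s, hs⟩ := exists_conj_le_P₀ hn hF (P' : Subgroup (Se F)) P'.2
  have hmap := map_P₀_eq hF hs
  let j₁ : Se F ≃* ↥(Subgroup.centralizer ({α} : Set G)) := (MulAut.conj s).trans j₀
  let j : Se F →* G := (Subgroup.centralizer ({α} : Set G)).subtype.comp j₁.toMonoidHom
  have hinj : Function.Injective j := Subtype.val_injective.comp j₁.injective
  have hrange : j.range = Subgroup.centralizer ({α} : Set G) := by
    ext g
    constructor
    · rintro ⟨A, rfl⟩
      exact (j₁ A).2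
    · intro hg
      obtain ⟨A, hA⟩ := j₁.surjective ⟨g, hg⟩
      exact ⟨A, congrArg Subtype.val hA⟩
  have hPj : (P : Subgroup G) = (P₀ F).map j := by
    ext g
    constructor
    · intro hg
      have h1 : j₀.symm ⟨g, hP hg⟩ ∈ (P' : Subgroup (Se F)) := by
        simp only [P', Sylow.coe_mapSurjective]
        exact Subgroup.mem_map_of_mem _ hg
      rw [hmap] at h1
      obtain ⟨A, hA, he⟩ := h1
      refine ⟨A, hA, ?_⟩
      change ((j₀ (MulAut.conj s A) : ↥(Subgroup.centralizer ({α} : Set G))) : G) = g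
      rw [show MulAut.conj s A = j₀.symm ⟨g, hP hg⟩ from he, MulEquiv.apply_symm_apply]
    · rintro ⟨A, hA, rfl⟩
      have h1 : MulAut.conj s A ∈ (P' : Subgroup (Se F)) := hmap ▸ Subgroup.mem_map_of_mem _ hA
      simp only [P', Sylow.coe_mapSurjective, Subgroup.mem_map] at h1
      obtain ⟨c, hc, he⟩ := h1
      change ((j₀ (MulAut.conj s A) : ↥(Subgroup.centralizer ({α} : Set G))) : G) ∈ (P : Subgroup G)
      rw [← he]
      change ((j₀ (j₀.symm c) : ↥(Subgroup.centralizer ({α} : Set G))) : G) ∈ _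
      rw [MulEquiv.apply_symm_apply]
      exact hc
  obtain ⟨A, hA⟩ : ∃ A : Se F, j A = α := by
    have h : α ∈ j.range := hrange ▸ Subgroup.mem_centralizer_singleton_iff.2 rfl
    exact h
  have h2 : (2 : F) ≠ 0 := by
    intro h0
    have := (CharP.cast_eq_zero_iff F p 2).1 (by exact_mod_cast h0)
    exact hp2 ((Nat.prime_dvd_prime_iff_eq (Fact.out : p.Prime) Nat.prime_two).1 this)
  obtain ⟨k, hk⟩ := eq_central_of_comm h2 (A := A) fun m _ => hinj (by
    have hm : j m ∈ Subgroup.centralizer ({α} : Set G) := hrange ▸ ⟨m, rfl⟩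
    rw [map_mul, map_mul, hA]
    exact (Subgroup.mem_centralizer_singleton_iff.1 hm).symm)
  refine ⟨j, hinj, hrange, hPj, k, by rw [← hk, hA], ?_⟩
  rintro rfl
  rw [hk, mA_zero, map_one] at hA
  rw [← hA, orderOf_one] at hα
  exact (Fact.out : p.Prime).one_lt.ne hα

end CfsgLib.PSpLocal
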