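import Mathlib.GroupTheory.Sylow
import Mathlib.GroupTheory.FixedPointFree
import Mathlib.GroupTheory.SpecificGroups.Cyclic

/-!
# A linear group with a point stabiliser of the shape of a Borel subgroup of `PGL(2, q)`

The setting of the normaliser of the elementary abelian subgroup of order `q ^ 3` in a group with a
`p`-centraliser of type `PSp(4, q)`, `q = 3 (mod 4)`.
-/

set_option autoImplicit false
set_option linter.style.haveILetI false
set_option linter.unusedSectionVars false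

namespace CfsgLib.PSpLocal

open Subgroup

/-- The data: the group `X` acts on `M`; every non-trivial element of `Z` has stabiliser `U T`. -/
structure Config (X M : Type*) [Group X] [CommGroup M] [MulDistribMulAction X M] (p q : ℕ) where
  hp : p.Prime
  p2 : p ≠ 2
  n : ℕ
  hqn : q = p ^ n
  q4 : q % 4 = 3
  U : Sylow p X
  cardU : Nat.card U = q
  cardM : Nat.card M = q ^ 3
  Z : Subgroup M
  cardZ : Nat.card Z = q
  fixU : ∀ u ∈ (U : Subgroup X), u ≠ 1 → ∀ m : M, u • m = m ↔ m ∈ Z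
  T : Subgroup X
  cardT : Nat.card T = q - 1
  cycT : IsCyclic T
  t : X
  tT : t ∈ T
  ht : orderOf t = 2
  normT : T ≤ normalizer ((U : Subgroup X) : Set X)
  fpfT : ∀ a ∈ T, ∀ u ∈ (U : Subgroup X), a * u = u * a → a = 1 ∨ u = 1
  stabZ : ∀ z ∈ Z, z ≠ 1 → ∀ g : X, g • z = z ↔ g ∈ (U : Subgroup X) ⊔ T
  cardFixT : Nat.card {m : M // t • m = m} = q ^ 2
  W₁ : Subgroup M
  cardW₁ : Nat.card W₁ = q
  negW₁ : ∀ w ∈ W₁, t • w = w⁻¹
  freeW₁ : ∀ a ∈ T, a ≠ 1 → ∀ w ∈ W₁, a • w = w → w = 1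
  shearW₁ : ∀ u ∈ (U : Subgroup X), ∀ w ∈ W₁, (u • w) / w ∈ Z
  W₂ : Subgroup M
  cardW₂ : Nat.card W₂ = q
  fixW₂ : ∀ w ∈ W₂, t • w = w
  invW₂ : ∀ a ∈ T, ∀ w ∈ W₂, a • w ∈ W₂
  freeW₂ : ∀ a ∈ T, a ≠ 1 → a ≠ t → ∀ w ∈ W₂, a • w = w → w = 1
  disjW₂ : ∀ w ∈ W₂, w ∈ Z → w = 1
  fus : ∃ z ∈ Z, ∃ z' ∈ Z, z ≠ 1 ∧ z' ≠ 1 ∧ ∀ g : X, g • z ≠ z'
  notNormal : ¬ (U : Subgroup X).Normal

namespace Config

variable {X M : Type*} [Group X] [CommGroup M] [MulDistribMulAction X M] {p q : ℕ} (c : Config X M p q)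

theorem smul_eq_one' {g : X} {z : M} : g • z = 1 ↔ z = 1 := by
  refine ⟨fun h => ?_, fun h => by rw [h, smul_one]⟩
  rwa [smul_eq_iff_eq_inv_smul, smul_one] at h

/-- The stabiliser of a non-trivial element of `Z`. -/
def B : Subgroup X := (c.U : Subgroup X) ⊔ c.T

include c in
theorem fact_p : Fact p.Prime := ⟨c.hp⟩

include c in
theorem three_le : 3 ≤ q := by have := c.q4; omega

include c in
theorem odd_q : Odd q := by have := c.q4; rw [Nat.odd_iff]; omega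

theorem U_le_B : (c.U : Subgroup X) ≤ c.B := le_sup_left

theorem T_le_B : c.T ≤ c.B := le_sup_right

theorem t_mem_B : c.t ∈ c.B := c.T_le_B c.tT

theorem t_sq : c.t * c.t = 1 := by rw [← pow_two, ← c.ht, pow_orderOf_eq_one]

theorem t_inv : c.t⁻¹ = c.t := inv_eq_of_mul_eq_one_right c.t_sq

theorem t_ne_one : c.t ≠ 1 := fun h => by
  have := c.ht
  rw [h, orderOf_one] at this
  omega

theorem t_smul_t (m : M) : c.t • c.t • m = m := by rw [← mul_smul, c.t_sq, one_smul]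

theorem T_comm {a b : X} (ha : a ∈ c.T) (hb : b ∈ c.T) : a * b = b * a := by
  haveI := c.cycT
  have h := IsMulCommutative.is_comm.comm (⟨a, ha⟩ : c.T) ⟨b, hb⟩
  exact congrArg Subtype.val h

theorem conj_mem_U {a u : X} (ha : a ∈ c.T) (hu : u ∈ (c.U : Subgroup X)) :
    a * u * a⁻¹ ∈ (c.U : Subgroup X) :=
  (mem_normalizer_iff.1 (c.normT ha) u).1 hu

theorem U_inf_T {a : X} (haT : a ∈ c.T) (haU : a ∈ (c.U : Subgroup X)) : a = 1 :=
  (c.fpfT a haT a haU rfl).elim id id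

theorem t_inv_U {u : X} (hu : u ∈ (c.U : Subgroup X)) [Finite X] : c.t * u * c.t⁻¹ = u⁻¹ := by
  let φ : ↥(c.U : Subgroup X) →* ↥(c.U : Subgroup X) :=
    { toFun := fun v => ⟨c.t * v * c.t⁻¹, c.conj_mem_U c.tT v.2⟩
      map_one' := Subtype.ext (by simp)
      map_mul' := fun v w => Subtype.ext (by simp only [Subgroup.coe_mul]; group) }
  have hfpf : MonoidHom.FixedPointFree φ := by
    intro v hv
    have h := congrArg Subtype.val hv
    change c.t * v * c.t⁻¹ = v at h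
    rcases c.fpfT c.t c.tT v v.2 (mul_inv_eq_iff_eq_mul.1 h) with h1 | h1
    · exact absurd h1 c.t_ne_one
    · exact Subtype.ext h1
  have hinv : Function.Involutive φ := fun v => Subtype.ext (by
    change c.t * (c.t * v * c.t⁻¹) * c.t⁻¹ = v
    rw [c.t_inv, mul_assoc c.t (v : X) c.t, ← mul_assoc c.t c.t, c.t_sq, one_mul, mul_assoc,
      c.t_sq, mul_one])
  have h := congrFun (hfpf.coe_eq_inv_of_involutive hinv) ⟨u, hu⟩
  exact congrArg Subtype.val h

theorem U_comm [Finite X] {u v : X} (hu : u ∈ (c.U : Subgroup X)) (hv : v ∈ (c.U : Subgroup X)) :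
    u * v = v * u := by
  have h : c.t * (u * v) * c.t⁻¹ = (c.t * u * c.t⁻¹) * (c.t * v * c.t⁻¹) := by group
  rw [c.t_inv_U (mul_mem hu hv), c.t_inv_U hu, c.t_inv_U hv] at h
  have h2 := congrArg (·⁻¹) h
  simpa using h2

theorem mem_B {g : X} : g ∈ c.B ↔ ∃ u ∈ (c.U : Subgroup X), ∃ a ∈ c.T, g = u * a := by
  constructor
  · intro hg
    have h : g ∈ (((c.U : Subgroup X) ⊔ c.T : Subgroup X) : Set X) := hg
    rw [Subgroup.coe_mul_of_right_le_normalizer_left _ _ c.normT, Set.mem_mul] at h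
    obtain ⟨u, hu, a, ha, rfl⟩ := h
    exact ⟨u, hu, a, ha, rfl⟩
  · rintro ⟨u, hu, a, ha, rfl⟩
    exact mul_mem (c.U_le_B hu) (c.T_le_B ha)

theorem eq_of_mul_eq {u u' a a' : X} (hu : u ∈ (c.U : Subgroup X)) (hu' : u' ∈ (c.U : Subgroup X))
    (ha : a ∈ c.T) (ha' : a' ∈ c.T) (h : u * a = u' * a') : u = u' ∧ a = a' := by
  have h1 : u'⁻¹ * u = a' * a⁻¹ := by
    rw [eq_mul_inv_iff_mul_eq, mul_assoc, h, inv_mul_cancel_left]
  have h2 := c.U_inf_T (mul_mem ha' (inv_mem ha)) (h1 ▸ mul_mem (inv_mem hu') hu)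
  rw [mul_inv_eq_one] at h2
  subst h2
  exact ⟨mul_right_cancel h, rfl⟩

theorem card_B : Nat.card c.B = q * (q - 1) := by
  have hp := Nat.card_prod ↥(c.U : Subgroup X) ↥c.T
  rw [c.cardT, show Nat.card ↥(c.U : Subgroup X) = q from c.cardU] at hp
  rw [← hp]
  refine (Nat.card_congr (Equiv.ofBijective (fun x : ↥(c.U : Subgroup X) × c.T =>
    (⟨x.1.1 * x.2.1, mul_mem (c.U_le_B x.1.2) (c.T_le_B x.2.2)⟩ : c.B)) ⟨?_, ?_⟩)).symm
  · rintro ⟨u, a⟩ ⟨u', a'⟩ h
    obtain ⟨h1, h2⟩ := c.eq_of_mul_eq u.2 u'.2 a.2 a'.2 (congrArg Subtype.val h)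
    exact Prod.ext (Subtype.ext h1) (Subtype.ext h2)
  · rintro ⟨g, hg⟩
    obtain ⟨u, hu, a, ha, rfl⟩ := c.mem_B.1 hg
    exact ⟨(⟨u, hu⟩, ⟨a, ha⟩), rfl⟩

theorem B_norm_U : c.B ≤ normalizer ((c.U : Subgroup X) : Set X) := sup_le le_normalizer c.normT

variable [Finite X]

/-- `U` is the only Sylow subgroup inside `B`. -/
theorem eq_U_of_le_B {V : Sylow p X} (h : (V : Subgroup X) ≤ c.B) : V = c.U := by
  haveI := c.fact_p
  let P : Sylow p c.B := V.subtype h
  let Q : Sylow p c.B := c.U.subtype c.U_le_B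
  have hn : (Q : Subgroup c.B).Normal := by
    have := (normal_subgroupOf_iff_le_normalizer c.U_le_B).2 c.B_norm_U
    simpa [Q, Sylow.coe_subtype] using this
  haveI := Sylow.unique_of_normal Q hn
  have hPQ : P = Q := Subsingleton.elim _ _
  exact Sylow.subtype_injective hPQ

omit [Finite X] in
theorem pElement_mem_of_mem_normalizer {V : Sylow p X} [Finite X] {u : X}
    (hu : u ∈ (c.U : Subgroup X)) (hN : u ∈ normalizer ((V : Subgroup X) : Set X)) :
    u ∈ (V : Subgroup X) := by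
  haveI := c.fact_p
  have h : IsPGroup p ↥(Subgroup.zpowers u) :=
    c.U.2.to_le ((zpowers_le).2 hu)
  have h2 : Subgroup.zpowers u ≤ normalizer ((V : Subgroup X) : Set X) := (zpowers_le).2 hN
  have h3 := V.2.to_sup_of_normal_left' h h2
  exact V.is_maximal' h3 le_sup_left ▸ (le_sup_right (α := Subgroup X) (mem_zpowers u))

/-- The Sylow subgroup `g U g⁻¹`. -/
theorem mem_smul_iff {g x : X} : x ∈ ((g • c.U : Sylow p X) : Subgroup X) ↔
    g⁻¹ * x * g ∈ (c.U : Subgroup X) := by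
  rw [Sylow.smul_def, Sylow.pointwise_smul_def, Subgroup.mem_pointwise_smul_iff_inv_smul_mem,
    MulAut.smul_def, MulAut.conj_inv_apply]

/-- An element fixing one non-trivial element of `Z` normalises `U`, and so does every element
carrying one non-trivial element of `Z` into `Z`. -/
theorem mem_norm_of_smul_mem {g : X} {z : M} (hz : z ∈ c.Z) (hz1 : z ≠ 1) (hgz : g • z ∈ c.Z) :
    g • c.U = c.U := by
  refine c.eq_U_of_le_B fun x hx => ?_
  rw [c.mem_smul_iff] at hx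
  rw [B, ← c.stabZ _ hgz (fun h => hz1 (smul_eq_one'.1 h)), ← inv_smul_eq_iff,
    ← mul_smul, ← mul_smul]
  exact (c.stabZ z hz hz1 _).2 (c.U_le_B hx)

/-- Elements of `N(U)` stabilise `Z`. -/
theorem smul_mem_Z {g : X} (hg : g • c.U = c.U) {z : M} (hz : z ∈ c.Z) : g • z ∈ c.Z := by
  obtain ⟨u, hu, hu1⟩ : ∃ u ∈ (c.U : Subgroup X), u ≠ 1 := by
    by_contra h
    push Not at h
    have : (c.U : Subgroup X) = ⊥ := (Subgroup.eq_bot_iff_forall _).2 h
    have h2 := c.cardU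
    rw [this, Subgroup.card_bot] at h2
    have := c.three_le
    omega
  have h1 : g⁻¹ * u * g ∈ (c.U : Subgroup X) := c.mem_smul_iff.1 (by rw [hg]; exact hu)
  rw [← c.fixU u hu hu1]
  have h2 := (c.fixU _ h1 (fun h => hu1 (conj_eq_one_iff.1 (show g⁻¹ * u * g⁻¹⁻¹ = 1 by rwa [inv_inv]))) z).2 hz
  rw [mul_smul, mul_smul, inv_smul_eq_iff] at h2
  exact h2

/-- Two Sylow subgroups with a common non-trivial element are equal. -/
theorem eq_of_common {g : X} {u : X} (hu : u ∈ (c.U : Subgroup X)) (hu1 : u ≠ 1)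
    (h : u ∈ ((g • c.U : Sylow p X) : Subgroup X)) : g • c.U = c.U := by
  rw [c.mem_smul_iff] at h
  obtain ⟨z, hz, z', hz', h1, -, -⟩ := c.fus
  refine c.mem_norm_of_smul_mem hz h1 ((c.fixU u hu hu1 _).1 ?_)
  have h2 := (c.fixU _ h (fun he => hu1 (conj_eq_one_iff.1 (show g⁻¹ * u * g⁻¹⁻¹ = 1 by rwa [inv_inv]))) z).2 hz
  rw [mul_smul, mul_smul, inv_smul_eq_iff] at h2
  exact h2

/-- The Sylow subgroup of `v`, for a conjugate `v` of an element of `Z`. -/
def OnSylow (V : Sylow p X) (v : M) : Prop :=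
  ∃ g : X, g • c.U = V ∧ g⁻¹ • v ∈ c.Z

theorem onSylow_unique {V W : Sylow p X} {v : M} (hv : v ≠ 1) (hV : c.OnSylow V v)
    (hW : c.OnSylow W v) : V = W := by
  obtain ⟨g, rfl, hg⟩ := hV
  obtain ⟨k, rfl, hk⟩ := hW
  have h := c.mem_norm_of_smul_mem (g := k⁻¹ * g) hg (fun h => hv (smul_eq_one'.1 h))
    (by rwa [mul_smul, smul_inv_smul])
  rw [mul_smul, inv_smul_eq_iff] at h
  exact h

theorem onSylow_smul {V : Sylow p X} {v : M} (x : X) (h : c.OnSylow V v) :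
    c.OnSylow (x • V) (x • v) := by
  obtain ⟨g, rfl, hg⟩ := h
  exact ⟨x * g, mul_smul _ _ _, by rwa [mul_inv_rev, mul_smul, inv_smul_smul]⟩

theorem onSylow_U {v : M} : c.OnSylow c.U v ↔ v ∈ c.Z := by
  refine ⟨?_, fun h => ⟨1, one_smul _ _, by rwa [inv_one, one_smul]⟩⟩
  rintro ⟨g, hg, hv⟩
  simpa using c.smul_mem_Z hg hv

/-- The elements of `M` attached to `V` form a subgroup of order `q`. -/
theorem exists_subgroup (V : Sylow p X) :
    ∃ S : Subgroup M, Nat.card S = q ∧ ∀ v, v ∈ S ↔ c.OnSylow V v := by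
  haveI := c.fact_p
  obtain ⟨g, hg⟩ := MulAction.exists_smul_eq X c.U V
  refine ⟨c.Z.map (MulDistribMulAction.toMonoidHom M g), ?_, fun v => ?_⟩
  · have hinj : Function.Injective (MulDistribMulAction.toMonoidHom M g) := MulAction.injective g
    rw [← Nat.card_congr (Subgroup.equivMapOfInjective c.Z _ hinj).toEquiv, c.cardZ]
  · rw [Subgroup.mem_map]
    constructor
    · rintro ⟨z, hz, rfl⟩
      exact ⟨g, hg, by simpa using hz⟩
    · intro h
      have h2 := c.onSylow_smul g⁻¹ h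
      rw [← hg, inv_smul_smul, c.onSylow_U] at h2
      exact ⟨_, h2, by simp⟩

theorem onSylow_mul {V : Sylow p X} {v w : M} (hv : c.OnSylow V v) (hw : c.OnSylow V w) :
    c.OnSylow V (v * w) := by
  obtain ⟨S, -, hS⟩ := c.exists_subgroup V
  exact (hS _).1 (mul_mem ((hS v).2 hv) ((hS w).2 hw))

theorem onSylow_inv {V : Sylow p X} {v : M} (hv : c.OnSylow V v) : c.OnSylow V v⁻¹ := by
  obtain ⟨S, -, hS⟩ := c.exists_subgroup V
  exact (hS _).1 (inv_mem ((hS v).2 hv))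

theorem exists_onSylow (V : Sylow p X) : ∃ v : M, v ≠ 1 ∧ c.OnSylow V v := by
  obtain ⟨S, hcard, hS⟩ := c.exists_subgroup V
  have : S ≠ ⊥ := fun h => by
    rw [h, Subgroup.card_bot] at hcard
    have := c.three_le
    omega
  obtain ⟨v, hv, hv1⟩ := (Subgroup.ne_bot_iff_exists_ne_one.1 this) |>.elim
    fun x hx => (⟨x.1, x.2, fun h => hx (Subtype.ext h)⟩ : ∃ v, v ∈ S ∧ v ≠ 1)
  exact ⟨v, hv1, (hS v).1 hv⟩

/-- A stabiliser of a point fixes the whole subgroup attached to the same Sylow subgroup. -/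
theorem stab_onSylow {V : Sylow p X} {v w : M} (hv : c.OnSylow V v) (hv1 : v ≠ 1)
    (hw : c.OnSylow V w) {g : X} (hg : g • v = v) : g • w = w := by
  obtain ⟨k, rfl, hk⟩ := hv
  have hw' : k⁻¹ • w ∈ c.Z := by
    have := c.onSylow_smul k⁻¹ hw
    rwa [inv_smul_smul, c.onSylow_U] at this
  have h1 : (k⁻¹ * g * k) ∈ c.B := by
    refine (c.stabZ _ hk (fun h => hv1 (smul_eq_one'.1 h)) _).1 ?_
    rw [mul_smul, mul_smul, smul_inv_smul, hg]
  by_cases h : k⁻¹ • w = 1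
  · rw [smul_eq_one'.1 h, smul_one]
  · have h2 := (c.stabZ _ hw' h _).2 h1
    rw [mul_smul, mul_smul, smul_inv_smul] at h2
    exact MulAction.injective k⁻¹ h2

end Config

end CfsgLib.PSpLocal
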