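import Mathlib.GroupTheory.Perm.Cycle.Type
import Mathlib.GroupTheory.GroupAction.Quotient
import Cfsg.Agent.PSpLocal.Config

/-!
# There are exactly `q + 1` Sylow `p`-subgroups

Every Sylow subgroup other than `U` is moved by exactly one element of `U` to one normalised by the
involution `t`; if there are `k` of the latter, `k + 1` divides `q - 1`, and the orbits of the odd
part of `T` on them force `k = 1`.
-/

set_option autoImplicit false
set_option linter.style.haveILetI false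
set_option linter.unusedSectionVars false

namespace CfsgLib.PSpLocal

open Subgroup

namespace Config

variable {X M : Type*} [Group X] [Finite X] [CommGroup M] [Finite M] [MulDistribMulAction X M]
  {p q : ℕ} (c : Config X M p q)

include c in
theorem eq_one_of_sq_M {m : M} (h : m * m = 1) : m = 1 := by
  have h3 : m ^ (q ^ 3) = 1 := by rw [← c.cardM]; exact pow_card_eq_one'
  obtain ⟨k, hk⟩ := c.odd_q.pow (n := 3)
  rw [hk, pow_succ, pow_mul, pow_two, h, one_pow, one_mul] at h3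
  exact h3

theorem eq_one_of_sq_U {u : X} (hu : u ∈ (c.U : Subgroup X)) (h : u * u = 1) : u = 1 := by
  have h3 : (⟨u, hu⟩ : (c.U : Subgroup X)) ^ q = 1 := by
    conv_lhs => arg 2; rw [← c.cardU]
    exact pow_card_eq_one'
  obtain ⟨k, hk⟩ := c.odd_q
  have h4 : u ^ q = 1 := congrArg Subtype.val h3
  rw [hk, pow_succ, pow_mul, pow_two, h, one_pow, one_mul] at h4
  exact h4

theorem exists_sqrt {u : X} (hu : u ∈ (c.U : Subgroup X)) :
    ∃ v ∈ (c.U : Subgroup X), v * v = u := by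
  refine ⟨u ^ ((q + 1) / 2), pow_mem hu _, ?_⟩
  have h3 : (⟨u, hu⟩ : (c.U : Subgroup X)) ^ q = 1 := by
    conv_lhs => arg 2; rw [← c.cardU]
    exact pow_card_eq_one'
  have h4 : u ^ q = 1 := congrArg Subtype.val h3
  have h5 : (q + 1) / 2 + (q + 1) / 2 = q + 1 := by have := c.q4; omega
  rw [← pow_add, h5, pow_succ, h4, one_mul]

theorem t_smul_conj {u : X} (hu : u ∈ (c.U : Subgroup X)) : c.t * u = u⁻¹ * c.t := by
  rw [← c.t_inv_U hu, inv_mul_cancel_right]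

theorem conj_t {u : X} (hu : u ∈ (c.U : Subgroup X)) : u * c.t * u⁻¹ = u * u * c.t := by
  rw [mul_assoc u c.t, c.t_smul_conj (inv_mem hu), inv_inv, ← mul_assoc]

theorem eq_one_or_t_of_sq {a : X} (ha : a ∈ c.T) (h : a * a = 1) : a = 1 ∨ a = c.t := by
  haveI := c.cycT
  by_contra hne
  push Not at hne
  classical
  have := Fintype.ofFinite c.T
  have hle : ({1, ⟨c.t, c.tT⟩, ⟨a, ha⟩} : Finset c.T) ⊆ Finset.univ.filter (fun x : c.T => x ^ 2 = 1) := by
    intro x hx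
    simp only [Finset.mem_insert, Finset.mem_singleton] at hx
    simp only [Finset.mem_filter, Finset.mem_univ, true_and]
    rcases hx with rfl | rfl | rfl
    · exact one_pow 2
    · exact Subtype.ext (by rw [pow_two]; exact c.t_sq)
    · exact Subtype.ext (by rw [pow_two]; exact h)
  have h1 := Finset.card_le_card hle
  have h2 := IsCyclic.card_pow_eq_one_le (α := c.T) (n := 2) (by norm_num)
  have h3 : ({1, ⟨c.t, c.tT⟩, ⟨a, ha⟩} : Finset c.T).card = 3 :=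
    Finset.card_eq_three.2 ⟨_, _, _, fun e => c.t_ne_one (congrArg Subtype.val e).symm,
      fun e => hne.1 (congrArg Subtype.val e).symm,
      fun e => hne.2 (congrArg Subtype.val e).symm, rfl⟩
  omega

/-- The involutions of `B` are conjugate to `t` under `U`. -/
theorem involution_B {x : X} (hx : x ∈ c.B) (h2 : x * x = 1) (h1 : x ≠ 1) :
    ∃ v ∈ (c.U : Subgroup X), x = v * c.t * v⁻¹ := by
  obtain ⟨u, hu, a, ha, rfl⟩ := c.mem_B.1 hx
  have h3 : u * (a * u * a⁻¹) * (a * a) = 1 * 1 := by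
    rw [one_mul, ← h2]; group
  obtain ⟨h4, h5⟩ := c.eq_of_mul_eq (mul_mem hu (c.conj_mem_U ha hu)) (one_mem _)
    (mul_mem ha ha) (one_mem _) h3
  rcases c.eq_one_or_t_of_sq ha h5 with rfl | rfl
  · rw [mul_one] at h1
    exact absurd (c.eq_one_of_sq_U hu (by simpa using h4)) h1
  · obtain ⟨v, hv, hvv⟩ := c.exists_sqrt hu
    exact ⟨v, hv, by rw [c.conj_t hv, hvv]⟩

/-- The group fixed by `t`. -/
def M₀ : Subgroup M where
  carrier := {m | c.t • m = m}
  one_mem' := smul_one _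
  mul_mem' {a b} ha hb := by
    simp only [Set.mem_ofPred_eq] at ha hb ⊢
    rw [smul_mul', ha, hb]
  inv_mem' {a} ha := by
    simp only [Set.mem_ofPred_eq] at ha ⊢
    rw [smul_inv', ha]

theorem mem_M₀ {m : M} : m ∈ c.M₀ ↔ c.t • m = m := Iff.rfl

theorem card_M₀ : Nat.card c.M₀ = q ^ 2 := c.cardFixT

theorem Z_fix_t {z : M} (hz : z ∈ c.Z) : c.t • z = z := by
  by_cases h : z = 1
  · rw [h, smul_one]
  · exact (c.stabZ z hz h _).2 c.t_mem_B

theorem Z_fix_U {z : M} (hz : z ∈ c.Z) {u : X} (hu : u ∈ (c.U : Subgroup X)) : u • z = z := by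
  by_cases h : u = 1
  · rw [h, one_smul]
  · exact (c.fixU u hu h z).2 hz

theorem fix_B {z : M} (hz : z ∈ c.Z) {g : X} (hg : g ∈ c.B) : g • z = z := by
  by_cases h : z = 1
  · rw [h, smul_one]
  · exact (c.stabZ z hz h _).2 hg

theorem eq_one_of_W₁_fix {w : M} (hw : w ∈ c.W₁) (h : c.t • w = w) : w = 1 := by
  rw [c.negW₁ w hw, inv_eq_iff_mul_eq_one] at h
  exact c.eq_one_of_sq_M h

theorem W₁_mem_Z {w : M} (hw : w ∈ c.W₁) (hz : w ∈ c.Z) : w = 1 :=
  c.eq_one_of_W₁_fix hw (c.Z_fix_t hz)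

theorem decomp (m : M) : ∃ y ∈ c.M₀, ∃ w ∈ c.W₁, m = y * w := by
  have hinj : Function.Injective (fun x : c.M₀ × c.W₁ => (x.1 : M) * x.2) := by
    rintro ⟨⟨y, hy⟩, ⟨w, hw⟩⟩ ⟨⟨y', hy'⟩, ⟨w', hw'⟩⟩ h
    simp only at h
    have h1 : y'⁻¹ * y = w' * w⁻¹ := by
      rw [eq_mul_inv_iff_mul_eq, mul_assoc, h, inv_mul_cancel_left]
    have h2 : w' * w⁻¹ = 1 :=
      c.eq_one_of_W₁_fix (mul_mem hw' (inv_mem hw)) (h1 ▸ mul_mem (inv_mem hy') hy)
    rw [h2, inv_mul_eq_one] at h1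
    rw [mul_inv_eq_one] at h2
    subst h1 h2
    rfl
  have hb : Function.Bijective (fun x : c.M₀ × c.W₁ => (x.1 : M) * x.2) := by
    rw [Nat.bijective_iff_injective_and_card]
    refine ⟨hinj, ?_⟩
    rw [Nat.card_prod, c.card_M₀, c.cardW₁, c.cardM]
    ring
  obtain ⟨⟨y, w⟩, h⟩ := hb.2 m
  exact ⟨y, y.2, w, w.2, h.symm⟩

theorem mem_W₁_of_neg {m : M} (h : c.t • m = m⁻¹) : m ∈ c.W₁ := by
  obtain ⟨y, hy, w, hw, rfl⟩ := c.decomp m
  rw [smul_mul', c.mem_M₀.1 hy, c.negW₁ w hw, mul_inv, mul_left_inj, eq_inv_iff_mul_eq_one] at h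
  rw [c.eq_one_of_sq_M h, one_mul]
  exact hw

theorem T_smul_W₁ {a : X} (ha : a ∈ c.T) {w : M} (hw : w ∈ c.W₁) : a • w ∈ c.W₁ := by
  refine c.mem_W₁_of_neg ?_
  rw [← mul_smul, c.T_comm c.tT ha, mul_smul, c.negW₁ w hw, smul_inv']

/-- The group `[M, U] = Z W₁`. -/
def M₁ : Subgroup M := c.Z ⊔ c.W₁

theorem mem_M₁ {m : M} : m ∈ c.M₁ ↔ ∃ z ∈ c.Z, ∃ w ∈ c.W₁, m = z * w := by
  rw [M₁, Subgroup.mem_sup]
  exact exists_congr fun z => and_congr_right fun _ => exists_congr fun w => and_congr_right fun _ =>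
    eq_comm

theorem card_M₁ : Nat.card c.M₁ = q * q := by
  have hp := Nat.card_prod c.Z c.W₁
  rw [c.cardZ, c.cardW₁] at hp
  rw [← hp]
  refine (Nat.card_congr (Equiv.ofBijective (fun x : c.Z × c.W₁ =>
    (⟨x.1 * x.2, c.mem_M₁.2 ⟨_, x.1.2, _, x.2.2, rfl⟩⟩ : c.M₁)) ⟨?_, ?_⟩)).symm
  · rintro ⟨⟨z, hz⟩, ⟨w, hw⟩⟩ ⟨⟨z', hz'⟩, ⟨w', hw'⟩⟩ h
    have h0 : z * w = z' * w' := congrArg Subtype.val h
    have h1 : z'⁻¹ * z = w' * w⁻¹ := by
      rw [eq_mul_inv_iff_mul_eq, mul_assoc, h0, inv_mul_cancel_left]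
    have h2 := c.W₁_mem_Z (mul_mem hw' (inv_mem hw)) (h1 ▸ mul_mem (inv_mem hz') hz)
    rw [h2, inv_mul_eq_one] at h1
    rw [mul_inv_eq_one] at h2
    subst h1 h2
    rfl
  · rintro ⟨m, hm⟩
    obtain ⟨z, hz, w, hw, rfl⟩ := c.mem_M₁.1 hm
    exact ⟨(⟨z, hz⟩, ⟨w, hw⟩), rfl⟩

theorem U_smul_M₁ {u : X} (hu : u ∈ (c.U : Subgroup X)) {m : M} (hm : m ∈ c.M₁) :
    u • m ∈ c.M₁ := by
  obtain ⟨z, hz, w, hw, rfl⟩ := c.mem_M₁.1 hm
  refine c.mem_M₁.2 ⟨z * ((u • w) / w), mul_mem hz (c.shearW₁ u hu w hw), w, hw, ?_⟩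
  rw [smul_mul', c.Z_fix_U hz hu, mul_assoc, div_mul_cancel]

theorem U_smul_M₁_iff {u : X} (hu : u ∈ (c.U : Subgroup X)) {m : M} :
    u • m ∈ c.M₁ ↔ m ∈ c.M₁ :=
  ⟨fun h => by simpa using c.U_smul_M₁ (inv_mem hu) h, c.U_smul_M₁ hu⟩

theorem M₀_inf_M₁ {m : M} (h0 : m ∈ c.M₀) (h1 : m ∈ c.M₁) : m ∈ c.Z := by
  obtain ⟨z, hz, w, hw, rfl⟩ := c.mem_M₁.1 h1
  rw [c.mem_M₀, smul_mul', c.Z_fix_t hz, mul_right_inj] at h0
  rw [c.eq_one_of_W₁_fix hw h0, mul_one]
  exact hz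

theorem card_compl {S : Subgroup M} {A : Subgroup M} (h : S ≤ A) :
    Nat.card {m : M // m ∈ A ∧ m ∉ S} = Nat.card A - Nat.card S := by
  have e : {m : M // m ∈ A ∧ m ∉ S} ≃ ↑((A : Set M) \ S) := Equiv.subtypeEquivRight (fun _ => Iff.rfl)
  rw [Nat.card_congr e, Nat.card_coe_set_eq, Set.ncard_sdiff h, ← Nat.card_coe_set_eq,
    ← Nat.card_coe_set_eq]
  rfl

/-- No conjugate of an element of `Z` lies in `Z W₁ \ Z`. -/
theorem not_onSylow_M₁ {v : M} (hv : v ∈ c.M₁) (hvZ : v ∉ c.Z) (V : Sylow p X) :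
    ¬ c.OnSylow V v := by
  intro hV
  -- `B` is transitive on `Z W₁ \ Z`
  have hwit : ∀ m : {m : M // m ∈ c.M₁ ∧ m ∉ c.Z}, ∃ u ∈ (c.U : Subgroup X), ∃ a ∈ c.T,
      (u * a) • v = m := by
    obtain ⟨z, hz, w, hw, rfl⟩ := c.mem_M₁.1 hv
    have hw1 : w ≠ 1 := fun h => hvZ (by rw [h, mul_one]; exact hz)
    have hmem : ∀ (u : (c.U : Subgroup X)) (a : c.T), ((u : X) * a) • (z * w) ∈ c.M₁ ∧
        ((u : X) * a) • (z * w) ∉ c.Z := by
      intro u a
      constructor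
      · rw [mul_smul, smul_mul', c.fix_B hz (c.T_le_B a.2)]
        exact c.U_smul_M₁ u.2 (c.mem_M₁.2 ⟨z, hz, _, c.T_smul_W₁ a.2 hw, rfl⟩)
      · intro h
        have h2 := c.fix_B h (inv_mem (mul_mem (c.U_le_B u.2) (c.T_le_B a.2)))
        rw [inv_smul_smul] at h2
        exact hvZ (h2 ▸ h)
    have hb : Function.Bijective (fun x : ↥(c.U : Subgroup X) × c.T =>
        (⟨((x.1 : X) * x.2) • (z * w), hmem x.1 x.2⟩ : {m : M // m ∈ c.M₁ ∧ m ∉ c.Z})) := by
      rw [Nat.bijective_iff_injective_and_card]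
      refine ⟨?_, ?_⟩
      · rintro ⟨⟨u, hu⟩, ⟨a, ha⟩⟩ ⟨⟨u', hu'⟩, ⟨a', ha'⟩⟩ h
        have h0 : (u * a) • (z * w) = (u' * a') • (z * w) := congrArg Subtype.val h
        simp only [mul_smul, smul_mul', c.fix_B hz (c.T_le_B ha), c.fix_B hz (c.T_le_B ha'),
          c.Z_fix_U hz hu, c.Z_fix_U hz hu', mul_right_inj] at h0
        have hs := c.shearW₁ u hu _ (c.T_smul_W₁ ha hw)
        have hs' := c.shearW₁ u' hu' _ (c.T_smul_W₁ ha' hw)
        have h1 : (a • w) / (a' • w) ∈ c.Z := by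
          have h2 := div_mem hs' hs
          rw [← h0, div_div_div_cancel_left] at h2
          exact h2
        have h3 := c.W₁_mem_Z (div_mem (c.T_smul_W₁ ha hw) (c.T_smul_W₁ ha' hw)) h1
        rw [div_eq_one] at h3
        have haa : a = a' := by
          by_contra hne
          refine hw1 (c.freeW₁ (a'⁻¹ * a) (mul_mem (inv_mem ha') ha) ?_ w hw ?_)
          · rwa [Ne, inv_mul_eq_one, eq_comm]
          · rw [mul_smul, h3, inv_smul_smul]
        subst haa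
        have huu : u = u' := by
          by_contra hne
          have h4 := (c.fixU (u'⁻¹ * u) (mul_mem (inv_mem hu') hu)
            (by rwa [Ne, inv_mul_eq_one, eq_comm]) (a • w)).1 (by rw [mul_smul, h0, inv_smul_smul])
          have h5 := c.W₁_mem_Z (c.T_smul_W₁ ha hw) h4
          exact hw1 (smul_eq_one'.1 h5)
        subst huu
        rfl
      · have hp := Nat.card_prod ↥(c.U : Subgroup X) ↥c.T
        rw [c.cardT, show Nat.card ↥(c.U : Subgroup X) = q from c.cardU] at hp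
        rw [hp, card_compl (S := c.Z) (A := c.M₁) le_sup_left, c.card_M₁, c.cardZ, Nat.mul_sub_one]
    intro m
    obtain ⟨⟨⟨u, hu⟩, ⟨a, ha⟩⟩, h⟩ := hb.2 m
    exact ⟨u, hu, a, ha, congrArg Subtype.val h⟩
  -- a non-trivial element of `W₁` on some Sylow subgroup
  obtain ⟨w, hw, hw1⟩ : ∃ w ∈ c.W₁, w ≠ 1 := by
    by_contra h
    push Not at h
    have h2 := c.cardW₁
    rw [(Subgroup.eq_bot_iff_forall _).2 h, Subgroup.card_bot] at h2
    have := c.three_le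
    omega
  obtain ⟨u, -, a, -, hua⟩ := hwit ⟨w, le_sup_right (a := c.Z) hw, fun h => hw1 (c.W₁_mem_Z hw h)⟩
  have hW := c.onSylow_smul (u * a) hV
  rw [hua] at hW
  generalize (u * a) • V = W at hW
  have htW : c.t • W = W := by
    have h := c.onSylow_smul c.t hW
    rw [show c.t • (⟨w, _⟩ : {m : M // m ∈ c.M₁ ∧ m ∉ c.Z}).1 = w⁻¹ from c.negW₁ w hw] at h
    exact c.onSylow_unique (inv_ne_one.2 hw1) h (c.onSylow_inv hW)
  obtain ⟨S, hScard, hS⟩ := c.exists_subgroup W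
  have hneg : S ≤ c.W₁ := by
    intro x hx
    have hx' := (hS x).1 hx
    have h2 : c.OnSylow W (c.t • x) := htW ▸ c.onSylow_smul c.t hx'
    refine c.mem_W₁_of_neg (eq_inv_of_mul_eq_one_right ?_)
    by_contra hne
    have hfix : c.t • (x * (c.t • x)) = x * (c.t • x) := by rw [smul_mul', c.t_smul_t, mul_comm]
    have h3 := c.stab_onSylow (c.onSylow_mul hx' h2) hne hW hfix
    exact hw1 (c.eq_one_of_W₁_fix hw h3)
  have hSW : S = c.W₁ := Subgroup.eq_of_le_of_card_ge hneg (by rw [hScard, c.cardW₁])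
  obtain ⟨g, hgW, hgw⟩ := hW
  have hwZ : g⁻¹ • w ≠ 1 := fun h => hw1 (smul_eq_one'.1 h)
  have hTW : ∀ a ∈ c.T, g⁻¹ • a • w ∈ c.Z := by
    intro a ha
    have h := c.onSylow_smul g⁻¹ ((hS _).1 (hSW ▸ c.T_smul_W₁ ha hw : a • w ∈ S))
    rwa [← hgW, inv_smul_smul, c.onSylow_U] at h
  have hb : Function.Bijective (fun a : c.T =>
      (⟨g⁻¹ • (a : X) • w, hTW a a.2, fun h => hw1 (smul_eq_one'.1 (smul_eq_one'.1 (Subgroup.mem_bot.1 h)))⟩ :
        {m : M // m ∈ c.Z ∧ m ∉ (⊥ : Subgroup M)})) := by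
    rw [Nat.bijective_iff_injective_and_card]
    refine ⟨?_, ?_⟩
    · intro a a' h
      have h0 : (a : X) • w = (a' : X) • w := MulAction.injective g⁻¹ (congrArg Subtype.val h)
      by_contra hne
      refine hw1 (c.freeW₁ ((a' : X)⁻¹ * a) (mul_mem (inv_mem a'.2) a.2) ?_ w hw ?_)
      · rw [Ne, inv_mul_eq_one]
        exact fun e => hne (Subtype.ext e.symm)
      · rw [mul_smul, h0, inv_smul_smul]
    · rw [card_compl (bot_le : (⊥ : Subgroup M) ≤ c.Z), c.cardZ, Subgroup.card_bot, c.cardT]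
  obtain ⟨z, hz, z', hz', h1, h1', hno⟩ := c.fus
  obtain ⟨a, ha⟩ := hb.2 ⟨z, hz, fun h => h1 (Subgroup.mem_bot.1 h)⟩
  obtain ⟨a', ha'⟩ := hb.2 ⟨z', hz', fun h => h1' (Subgroup.mem_bot.1 h)⟩
  refine hno (g⁻¹ * (a' * (a : X)⁻¹) * g) ?_
  have e1 : g⁻¹ • (a : X) • w = z := congrArg Subtype.val ha
  have e2 : g⁻¹ • (a' : X) • w = z' := congrArg Subtype.val ha'
  rw [← e1, ← e2, mul_smul, mul_smul, mul_smul, smul_inv_smul, inv_smul_smul]

/-- Outside `Z W₁`, every `U`-orbit meets the group fixed by `t`. -/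
theorem exists_u_fix {v : M} (hv : v ∉ c.M₁) :
    ∃ u ∈ (c.U : Subgroup X), c.t • u • v = u • v := by
  have hmem : ∀ x : ↥(c.U : Subgroup X) × {m : M // m ∈ c.M₀ ∧ m ∉ c.Z},
      (x.1 : X) • (x.2 : M) ∈ (⊤ : Subgroup M) ∧ (x.1 : X) • (x.2 : M) ∉ c.M₁ := fun x =>
    ⟨trivial, fun h => x.2.2.2 (c.M₀_inf_M₁ x.2.2.1 ((c.U_smul_M₁_iff x.1.2).1 h))⟩
  have hb : Function.Bijective (fun x : ↥(c.U : Subgroup X) × {m : M // m ∈ c.M₀ ∧ m ∉ c.Z} =>
      (⟨(x.1 : X) • (x.2 : M), hmem x⟩ : {m : M // m ∈ (⊤ : Subgroup M) ∧ m ∉ c.M₁})) := by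
    rw [Nat.bijective_iff_injective_and_card]
    refine ⟨?_, ?_⟩
    · rintro ⟨⟨u, hu⟩, ⟨m, hm, hmZ⟩⟩ ⟨⟨u', hu'⟩, ⟨m', hm', hmZ'⟩⟩ h
      have h0 : u • m = u' • m' := congrArg Subtype.val h
      have h1 : (u'⁻¹ * u) • m = m' := by rw [mul_smul, h0, inv_smul_smul]
      have hw := mul_mem (inv_mem hu') hu
      have h2 : (u'⁻¹ * u)⁻¹ • m = m' := by
        have h3 := congrArg (c.t • ·) h1
        simp only [← mul_smul, c.t_smul_conj hw] at h3
        rwa [mul_smul, c.mem_M₀.1 hm, c.mem_M₀.1 hm'] at h3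
      have h4 : ((u'⁻¹ * u) * (u'⁻¹ * u)) • m = m := by
        rw [mul_smul, h1, ← h2, smul_inv_smul]
      have h5 : u'⁻¹ * u = 1 := by
        refine c.eq_one_of_sq_U hw ?_
        by_contra hne
        exact hmZ ((c.fixU _ (mul_mem hw hw) hne m).1 h4)
      rw [h5, one_smul] at h1
      rw [inv_mul_eq_one] at h5
      subst h5 h1
      rfl
    · have e : Nat.card {m : M // m ∈ c.M₀ ∧ m ∉ c.Z} = q ^ 2 - q := by
        rw [card_compl (fun z hz => c.Z_fix_t hz : c.Z ≤ c.M₀), c.card_M₀, c.cardZ]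
      have hp := Nat.card_prod ↥(c.U : Subgroup X) {m : M // m ∈ c.M₀ ∧ m ∉ c.Z}
      rw [e, show Nat.card ↥(c.U : Subgroup X) = q from c.cardU] at hp
      rw [hp, card_compl (le_top : c.M₁ ≤ ⊤), Subgroup.card_top, c.cardM, c.card_M₁, Nat.mul_sub]
      ring_nf
  obtain ⟨⟨⟨u, hu⟩, ⟨m, hm, hmZ⟩⟩, h⟩ := hb.2 ⟨v, trivial, hv⟩
  refine ⟨u⁻¹, inv_mem hu, ?_⟩
  have h0 : u • m = v := congrArg Subtype.val h
  rw [← h0, inv_smul_smul]
  exact hm

theorem not_mem_M₁_of_onSylow {V : Sylow p X} (hVU : V ≠ c.U) {v : M} (hv1 : v ≠ 1)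
    (hv : c.OnSylow V v) : v ∉ c.M₁ := fun h => by
  by_cases hz : v ∈ c.Z
  · exact hVU (c.onSylow_unique hv1 hv (c.onSylow_U.2 hz))
  · exact c.not_onSylow_M₁ h hz V hv

/-- A non-trivial element of `U` fixes only `U`. -/
theorem eq_one_of_fix {V : Sylow p X} (hVU : V ≠ c.U) {u : X} (hu : u ∈ (c.U : Subgroup X))
    (h : u • V = V) : u = 1 := by
  by_contra hne
  haveI := c.fact_p
  obtain ⟨g, rfl⟩ := MulAction.exists_smul_eq X c.U V
  exact hVU (c.eq_of_common hu hne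
    (c.pElement_mem_of_mem_normalizer hu (Sylow.smul_eq_iff_mem_normalizer.1 h)))

theorem fix_t_or (V : Sylow p X) (h : c.t • V = V) {v : M} (hv : c.OnSylow V v) : c.t • v = v := by
  by_cases hVU : V = c.U
  · subst hVU
    exact c.Z_fix_t (c.onSylow_U.1 hv)
  obtain ⟨v₀, hv1, hv0⟩ := c.exists_onSylow V
  obtain ⟨u, hu, hfix⟩ := c.exists_u_fix (c.not_mem_M₁_of_onSylow hVU hv1 hv0)
  have h1 : c.t • v₀ = (u * u) • v₀ := by
    have h2 := congrArg ((u : X) • ·) hfix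
    simp only [← mul_smul] at h2
    rw [← h2]
    congr 1
    rw [c.t_smul_conj hu, mul_inv_cancel_left]
  have h3 : (u * u) • V = V := by
    refine c.onSylow_unique (fun e => hv1 (smul_eq_one'.1 e)) (c.onSylow_smul _ hv0) ?_
    rw [← h1]
    exact h ▸ c.onSylow_smul c.t hv0
  have h4 := c.eq_one_of_fix hVU (mul_mem hu hu) h3
  rw [h4, one_smul] at h1
  exact c.stab_onSylow hv0 hv1 hv h1

theorem smul_U : ∀ {u : X}, u ∈ (c.U : Subgroup X) → u • c.U = c.U := fun hu =>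
  Sylow.smul_eq_iff_mem_normalizer.2 (le_normalizer hu)

theorem T_smul_U {a : X} (ha : a ∈ c.T) : a • c.U = c.U :=
  Sylow.smul_eq_iff_mem_normalizer.2 (c.normT ha)

theorem exists_u_fix_sylow {V : Sylow p X} (hVU : V ≠ c.U) :
    ∃ u ∈ (c.U : Subgroup X), c.t • u • V = u • V := by
  obtain ⟨v, hv1, hv⟩ := c.exists_onSylow V
  obtain ⟨u, hu, hfix⟩ := c.exists_u_fix (c.not_mem_M₁_of_onSylow hVU hv1 hv)
  refine ⟨u, hu, c.onSylow_unique (fun e => hv1 (smul_eq_one'.1 e)) ?_ (c.onSylow_smul u hv)⟩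
  have h := c.onSylow_smul c.t (c.onSylow_smul u hv)
  rwa [hfix] at h

/-- The Sylow subgroups other than `U` normalised by `t`. -/
abbrev Fixed : Type _ := {V : Sylow p X // V ≠ c.U ∧ c.t • V = V}

theorem card_sylow : Nat.card (Sylow p X) = 1 + Nat.card c.Fixed * q := by
  classical
  have hne : ∀ x : ↥(c.U : Subgroup X) × c.Fixed, (x.1 : X) • x.2.1 ≠ c.U := fun x h =>
    x.2.2.1 (by
      have h2 := congrArg ((x.1 : X)⁻¹ • ·) h
      simp only [inv_smul_smul] at h2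
      rw [h2, c.smul_U (inv_mem x.1.2)])
  have hb : Function.Bijective (fun x : ↥(c.U : Subgroup X) × c.Fixed =>
      (⟨(x.1 : X) • x.2.1, hne x⟩ : {V : Sylow p X // V ≠ c.U})) := by
    constructor
    · rintro ⟨⟨u, hu⟩, ⟨V, hV, hVt⟩⟩ ⟨⟨u', hu'⟩, ⟨V', hV', hV't⟩⟩ h
      have h0 : u • V = u' • V' := congrArg Subtype.val h
      have h1 : (u'⁻¹ * u) • V = V' := by rw [mul_smul, h0, inv_smul_smul]
      have hw := mul_mem (inv_mem hu') hu
      have h2 : (u'⁻¹ * u)⁻¹ • V = V' := by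
        have h3 := congrArg (c.t • ·) h1
        simp only [← mul_smul, c.t_smul_conj hw] at h3
        rwa [mul_smul, hVt, hV't] at h3
      have h5 : u'⁻¹ * u = 1 := c.eq_one_of_sq_U hw
        (c.eq_one_of_fix hV (mul_mem hw hw) (by rw [mul_smul, h1, ← h2, smul_inv_smul]))
      rw [h5, one_smul] at h1
      rw [inv_mul_eq_one] at h5
      subst h5 h1
      rfl
    · rintro ⟨V, hV⟩
      obtain ⟨u, hu, hfix⟩ := c.exists_u_fix_sylow hV
      refine ⟨(⟨u⁻¹, inv_mem hu⟩, ⟨u • V, ?_, hfix⟩), Subtype.ext (inv_smul_smul u V)⟩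
      intro h
      refine hV ?_
      have h2 := congrArg ((u : X)⁻¹ • ·) h
      simp only [inv_smul_smul] at h2
      rw [h2, c.smul_U (inv_mem hu)]
  have h := Nat.card_congr (Equiv.ofBijective _ hb)
  have hp := Nat.card_prod ↥(c.U : Subgroup X) c.Fixed
  rw [show Nat.card ↥(c.U : Subgroup X) = q from c.cardU] at hp
  rw [hp] at h
  have h2 := Nat.card_congr (Equiv.sumCompl (fun V : Sylow p X => V = c.U)).symm
  rw [Nat.card_sum] at h2
  have h3 : Nat.card {V : Sylow p X // V = c.U} = 1 := Nat.card_unique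
  rw [h2, h3, ← h, mul_comm]

/-- The centraliser of `t`. -/
def C : Subgroup X := centralizer ({c.t} : Set X)

/-- The common normaliser of `U` and `t`. -/
def L : Subgroup X := MulAction.stabilizer X c.U ⊓ c.C

theorem mem_C {g : X} : g ∈ c.C ↔ g * c.t = c.t * g := mem_centralizer_singleton_iff

theorem exists_L {g : X} {V : Sylow p X} (hg : g • c.U = V) (ht : c.t • V = V) :
    ∃ v ∈ (c.U : Subgroup X), g * v ∈ c.C := by
  obtain ⟨z, hz, -, -, hz1, -, -⟩ := c.fus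
  have h1 : c.t • g • z = g • z :=
    c.fix_t_or V ht (hg ▸ c.onSylow_smul g (c.onSylow_U.2 hz))
  have h2 : g⁻¹ * c.t * g ∈ c.B := (c.stabZ z hz hz1 _).1 (by
    rw [mul_smul, mul_smul, h1, inv_smul_smul])
  obtain ⟨v, hv, h3⟩ := c.involution_B h2
    (calc g⁻¹ * c.t * g * (g⁻¹ * c.t * g) = g⁻¹ * (c.t * c.t) * g := by group
      _ = 1 := by rw [c.t_sq]; group)
    (fun h => c.t_ne_one (by
      calc c.t = g * (g⁻¹ * c.t * g) * g⁻¹ := by group
        _ = 1 := by rw [h]; group))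
  refine ⟨v, hv, c.mem_C.2 ?_⟩
  calc g * v * c.t = g * (v * c.t * v⁻¹) * v := by group
    _ = c.t * (g * v) := by rw [← h3]; group

theorem card_stabilizer : Nat.card (MulAction.stabilizer X c.U) = q * Nat.card c.L := by
  have hp := Nat.card_prod ↥(c.U : Subgroup X) ↥c.L
  rw [show Nat.card ↥(c.U : Subgroup X) = q from c.cardU] at hp
  rw [← hp]
  refine (Nat.card_congr (Equiv.ofBijective (fun x : ↥(c.U : Subgroup X) × c.L =>
    (⟨x.1.1 * x.2.1, mul_mem (MulAction.mem_stabilizer_iff.2 (c.smul_U x.1.2))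
      x.2.2.1⟩ : MulAction.stabilizer X c.U)) ⟨?_, ?_⟩)).symm
  · rintro ⟨⟨u, hu⟩, ⟨l, hl⟩⟩ ⟨⟨u', hu'⟩, ⟨l', hl'⟩⟩ h
    have h0 : u * l = u' * l' := congrArg Subtype.val h
    have h1 : u'⁻¹ * u = l' * l⁻¹ := by
      rw [eq_mul_inv_iff_mul_eq, mul_assoc, h0, inv_mul_cancel_left]
    have h2 : u'⁻¹ * u = 1 := by
      have hw := mul_mem (inv_mem hu') hu
      have hc : u'⁻¹ * u ∈ c.C := h1 ▸ mul_mem hl'.2 (inv_mem hl.2)
      rcases c.fpfT c.t c.tT _ hw (c.mem_C.1 hc).symm with h | h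
      · exact absurd h c.t_ne_one
      · exact h
    rw [h2, eq_comm, mul_inv_eq_one] at h1
    rw [inv_mul_eq_one] at h2
    subst h1 h2
    rfl
  · rintro ⟨g, hg⟩
    obtain ⟨v, hv, hgv⟩ := c.exists_L (g := g) hg (c.T_smul_U c.tT)
    have hgvg : g * v * g⁻¹ ∈ (c.U : Subgroup X) := by
      have h := c.mem_smul_iff.2 (show g⁻¹ * (g * v * g⁻¹) * g ∈ (c.U : Subgroup X) by
        simpa [mul_assoc] using hv)
      rwa [show g • c.U = c.U from hg] at h
    refine ⟨(⟨(g * v * g⁻¹)⁻¹, inv_mem hgvg⟩, ⟨g * v, ?_, hgv⟩), Subtype.ext ?_⟩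
    · exact mul_mem hg (MulAction.mem_stabilizer_iff.2 (c.smul_U hv))
    · change (g * v * g⁻¹)⁻¹ * (g * v) = g
      group

theorem card_X : Nat.card X = (1 + Nat.card c.Fixed * q) * (q * Nat.card c.L) := by
  haveI := c.fact_p
  rw [← c.card_stabilizer, ← c.card_sylow]
  have h := Nat.card_congr (MulAction.orbitProdStabilizerEquivGroup X c.U)
  rw [Nat.card_prod, MulAction.orbit_eq_univ, Nat.card_univ] at h
  exact h.symm

theorem card_C : Nat.card c.C = (1 + Nat.card c.Fixed) * Nat.card c.L := by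
  haveI := c.fact_p
  have h := Nat.card_congr (MulAction.orbitProdStabilizerEquivGroup c.C c.U)
  rw [Nat.card_prod] at h
  have hL : Nat.card (MulAction.stabilizer c.C c.U) = Nat.card c.L :=
    Nat.card_congr
      { toFun := fun g => ⟨g.1.1, g.2, g.1.2⟩
        invFun := fun g => ⟨⟨g.1, g.2.2⟩, g.2.1⟩
        left_inv := fun _ => rfl
        right_inv := fun _ => rfl }
  have horb : MulAction.orbit c.C c.U = {V : Sylow p X | V = c.U ∨ (V ≠ c.U ∧ c.t • V = V)} := by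
    ext V
    constructor
    · rintro ⟨⟨g, hg⟩, rfl⟩
      change g • c.U = c.U ∨ (g • c.U ≠ c.U ∧ c.t • g • c.U = g • c.U)
      by_cases h : g • c.U = c.U
      · exact Or.inl h
      · refine Or.inr ⟨h, ?_⟩
        rw [← mul_smul, ← c.mem_C.1 hg, mul_smul, c.T_smul_U c.tT]
    · intro hV
      have htV : c.t • V = V := by
        rcases hV with rfl | hV
        · exact c.T_smul_U c.tT
        · exact hV.2
      obtain ⟨g, hg⟩ := MulAction.exists_smul_eq X c.U V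
      obtain ⟨v, hv, hgv⟩ := c.exists_L hg htV
      refine ⟨⟨g * v, hgv⟩, ?_⟩
      change (g * v) • c.U = V
      rw [mul_smul, c.smul_U hv, hg]
  classical
  have e : Nat.card {V : Sylow p X // V = c.U ∨ (V ≠ c.U ∧ c.t • V = V)} = 1 + Nat.card c.Fixed := by
    rw [Nat.card_congr (subtypeOrEquiv (fun V : Sylow p X => V = c.U) _
      (disjoint_iff_inf_le.2 fun V h => h.2.1 h.1)), Nat.card_sum, Nat.card_unique]
  rw [hL, horb] at h
  rw [← h]
  rw [← e]
  rfl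


theorem not_dvd_card_C : ¬ p ∣ Nat.card c.C := by
  haveI := c.fact_p
  intro hdvd
  obtain ⟨u, hu⟩ := exists_prime_orderOf_dvd_card' p hdvd
  have hord : orderOf (u : X) = p := by rw [orderOf_coe]; exact hu
  have hp : IsPGroup p ↥(Subgroup.zpowers (u : X)) :=
    IsPGroup.of_card (n := 1) (by rw [Nat.card_zpowers, hord, pow_one])
  obtain ⟨V, hV⟩ := hp.exists_le_sylow
  obtain ⟨g, rfl⟩ := MulAction.exists_smul_eq X c.U V
  have huV := hV (mem_zpowers _)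
  have hut : (u : X) * c.t = c.t * u := c.mem_C.1 u.2
  have h1 : g⁻¹ * (u : X) * g ∈ (c.U : Subgroup X) := c.mem_smul_iff.1 huV
  have hne : g⁻¹ * (u : X) * g ≠ 1 := fun h => by
    have h' : (u : X) = 1 := by
      calc (u : X) = g * (g⁻¹ * (u : X) * g) * g⁻¹ := by group
        _ = 1 := by rw [h]; group
    rw [h', orderOf_one] at hord
    exact c.hp.ne_one hord.symm
  have h2 : (g⁻¹ * c.t * g) • c.U = c.U := by
    refine c.eq_of_common h1 hne (c.mem_smul_iff.2 ?_)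
    have h3 : (g⁻¹ * c.t * g)⁻¹ * (g⁻¹ * (u : X) * g) * (g⁻¹ * c.t * g) = g⁻¹ * (u : X) * g := by
      calc _ = g⁻¹ * (c.t⁻¹ * ((u : X) * c.t)) * g := by group
        _ = _ := by rw [hut]; group
    rw [h3]
    exact h1
  have h4 : c.t • g • c.U = g • c.U := by
    rw [mul_smul, mul_smul, inv_smul_eq_iff] at h2
    exact h2
  obtain ⟨v, hv, hgv⟩ := c.exists_L rfl h4
  have h5 : (g * v)⁻¹ * (u : X) * (g * v) ∈ (c.U : Subgroup X) := by
    have := mul_mem (mul_mem (inv_mem hv) h1) hv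
    simpa [mul_assoc] using this
  have hne5 : (g * v)⁻¹ * (u : X) * (g * v) ≠ 1 := fun h => hne (by
    calc g⁻¹ * (u : X) * g = v * ((g * v)⁻¹ * (u : X) * (g * v)) * v⁻¹ := by group
      _ = 1 := by rw [h]; group)
  have hc5 : c.t * ((g * v)⁻¹ * (u : X) * (g * v)) = (g * v)⁻¹ * (u : X) * (g * v) * c.t := by
    have hm : (g * v)⁻¹ * (u : X) * (g * v) ∈ c.C := mul_mem (mul_mem (inv_mem hgv) u.2) hgv
    exact (c.mem_C.1 hm).symm
  rcases c.fpfT c.t c.tT _ h5 hc5 with h | h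
  · exact c.t_ne_one h
  · exact hne5 h

theorem fixed_add_one_dvd : Nat.card c.Fixed + 1 ∣ q - 1 := by
  set k := Nat.card c.Fixed with hk
  have hL : 0 < Nat.card c.L := Nat.card_pos
  have h1 : (1 + k) * Nat.card c.L ∣ (1 + k * q) * q * Nat.card c.L := by
    rw [mul_assoc (1 + k * q), ← c.card_X, ← c.card_C]
    exact Subgroup.card_subgroup_dvd_card _
  have h2 : 1 + k ∣ (1 + k * q) * q := Nat.dvd_of_mul_dvd_mul_right hL h1
  have h3 : Nat.Coprime (1 + k) q := by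
    rw [c.hqn]
    refine Nat.Coprime.pow_right _ (Nat.Coprime.symm ((c.hp.coprime_iff_not_dvd).2 fun h => ?_))
    exact c.not_dvd_card_C (c.card_C ▸ h.mul_right _)
  have h4 := Nat.Coprime.dvd_of_dvd_mul_right h3 h2
  have h5 : 1 + k ∣ (1 + k) * q := dvd_mul_right _ _
  have h6 := Nat.dvd_sub h5 h4
  rw [show (1 + k) * q - (1 + k * q) = q - 1 by rw [add_mul, one_mul]; omega] at h6
  rwa [add_comm] at h6

theorem decomp₀ {m : M} (hm : m ∈ c.M₀) : ∃ z ∈ c.Z, ∃ w ∈ c.W₂, m = z * w := by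
  have hb : Function.Bijective (fun x : c.Z × c.W₂ =>
      (⟨(x.1 : M) * x.2, mul_mem (c.Z_fix_t x.1.2 : (x.1 : M) ∈ c.M₀) (c.fixW₂ _ x.2.2)⟩ : c.M₀)) := by
    rw [Nat.bijective_iff_injective_and_card]
    refine ⟨?_, ?_⟩
    · rintro ⟨⟨z, hz⟩, ⟨w, hw⟩⟩ ⟨⟨z', hz'⟩, ⟨w', hw'⟩⟩ h
      have h0 : z * w = z' * w' := congrArg Subtype.val h
      have h1 : z'⁻¹ * z = w' * w⁻¹ := by
        rw [eq_mul_inv_iff_mul_eq, mul_assoc, h0, inv_mul_cancel_left]
      have h2 := c.disjW₂ _ (mul_mem hw' (inv_mem hw)) (h1 ▸ mul_mem (inv_mem hz') hz)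
      rw [h2, inv_mul_eq_one] at h1
      rw [mul_inv_eq_one] at h2
      subst h1 h2
      rfl
    · rw [Nat.card_prod, c.cardZ, c.cardW₂, c.card_M₀, pow_two]
  obtain ⟨⟨⟨z, hz⟩, ⟨w, hw⟩⟩, h⟩ := hb.2 ⟨m, hm⟩
  exact ⟨z, hz, w, hw, (congrArg Subtype.val h).symm⟩

/-- The Sylow subgroup attached to `W₂`, if there is one. -/
def IsTop (V : Sylow p X) : Prop := ∀ v, c.OnSylow V v → v ∈ c.W₂

theorem isTop_unique {V W : Sylow p X} (hV : c.IsTop V) (hW : c.IsTop W) : V = W := by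
  obtain ⟨S, hS, hSm⟩ := c.exists_subgroup V
  obtain ⟨v, hv1, hv⟩ := c.exists_onSylow W
  have hSW : S = c.W₂ := Subgroup.eq_of_le_of_card_ge (fun x hx => hV x ((hSm x).1 hx))
    (by rw [hS, c.cardW₂])
  exact c.onSylow_unique hv1 ((hSm v).1 (hSW ▸ hW v hv)) hv

theorem isTop_of_fix {V : Sylow p X} (hVU : V ≠ c.U) (hVt : c.t • V = V) {a : X} (ha : a ∈ c.T)
    (h1 : a ≠ 1) (ht : a ≠ c.t) (hfix : a • V = V) : c.IsTop V := by
  obtain ⟨S, hS, hSm⟩ := c.exists_subgroup V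
  have hS0 : ∀ x ∈ S, x ∈ c.M₀ := fun x hx => c.fix_t_or V hVt ((hSm x).1 hx)
  have hmap : ∀ x : S, (a • (x : M)) / x ∈ S ⊓ c.W₂ := by
    rintro ⟨x, hx⟩
    refine ⟨(div_mem ((hSm _).2 (hfix ▸ c.onSylow_smul a ((hSm x).1 hx))) hx : (a • x) / x ∈ S), ?_⟩
    obtain ⟨z, hz, w, hw, rfl⟩ := c.decomp₀ (hS0 x hx)
    change (a • (z * w)) / (z * w) ∈ c.W₂
    rw [smul_mul', c.fix_B hz (c.T_le_B ha), mul_div_mul_left_eq_div]
    exact div_mem (c.invW₂ a ha w hw) hw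
  have hinj : Function.Injective (fun x : S => (⟨(a • (x : M)) / x, hmap x⟩ : ↥(S ⊓ c.W₂))) := by
    rintro ⟨x, hx⟩ ⟨y, hy⟩ h
    have h0 : (a • x) / x = (a • y) / y := congrArg Subtype.val h
    rw [div_eq_div_iff_div_eq_div, ← smul_div'] at h0
    obtain ⟨z, hz, w, hw, he⟩ := c.decomp₀ (hS0 _ (div_mem hx hy))
    rw [he, smul_mul', c.fix_B hz (c.T_le_B ha), mul_right_inj] at h0
    have hz' : x / y ∈ c.Z := by
      rw [he, c.freeW₂ a ha h1 ht w hw h0, mul_one]; exact hz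
    refine Subtype.ext (div_eq_one.1 ?_)
    by_contra hne
    exact hVU (c.onSylow_unique hne ((hSm _).1 (div_mem hx hy)) (c.onSylow_U.2 hz'))
  have hle : S ≤ c.W₂ := by
    have h := Subgroup.eq_of_le_of_card_ge (inf_le_left : S ⊓ c.W₂ ≤ S)
      (Nat.card_le_card_of_injective _ hinj)
    exact h ▸ inf_le_right
  exact fun v hv => hle ((hSm v).2 hv)

theorem isTop_smul {V : Sylow p X} {a : X} (ha : a ∈ c.T) (h : c.IsTop V) : c.IsTop (a • V) := by
  intro v hv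
  have h2 := c.onSylow_smul a⁻¹ hv
  rw [inv_smul_smul] at h2
  simpa using c.invW₂ a ha _ (h _ h2)

theorem card_fixed_le : Nat.card c.Fixed ≤ q := by
  classical
  choose S hS hSm using fun V : c.Fixed => c.exists_subgroup V.1
  have hinj : Function.Injective (fun x : Σ V : c.Fixed, {v : M // v ∈ S V ∧ v ∉ (⊥ : Subgroup M)} =>
      (⟨x.2.1, c.fix_t_or x.1.1 x.1.2.2 ((hSm _ _).1 x.2.2.1), fun h => x.1.2.1
        (c.onSylow_unique (fun e => x.2.2.2 (Subgroup.mem_bot.2 e)) ((hSm _ _).1 x.2.2.1)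
          (c.onSylow_U.2 h))⟩ : {m : M // m ∈ c.M₀ ∧ m ∉ c.Z})) := by
    rintro ⟨V, v, hv, hv1⟩ ⟨W, w, hw, hw1⟩ h
    have h0 : v = w := congrArg Subtype.val h
    subst h0
    have := Subtype.ext (c.onSylow_unique (fun e => hv1 (Subgroup.mem_bot.2 e))
      ((hSm _ _).1 hv) ((hSm _ _).1 hw))
    subst this
    rfl
  have := Fintype.ofFinite c.Fixed
  have h := Nat.card_le_card_of_injective _ hinj
  rw [Nat.card_sigma, card_compl (fun z hz => c.Z_fix_t hz : c.Z ≤ c.M₀), c.card_M₀, c.cardZ,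
    Finset.sum_congr rfl (fun V _ => by rw [card_compl (bot_le : ⊥ ≤ S V), hS, Subgroup.card_bot]),
    Finset.sum_const, Finset.card_univ, ← Nat.card_eq_fintype_card, smul_eq_mul, pow_two,
    ← Nat.mul_sub_one] at h
  exact Nat.le_of_mul_le_mul_right h (by have := c.three_le; omega)

theorem fixed_pos : 1 ≤ Nat.card c.Fixed := by
  haveI := c.fact_p
  by_contra h
  have h2 := c.card_sylow
  rw [show Nat.card c.Fixed = 0 by omega, zero_mul, add_zero] at h2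
  haveI : Subsingleton (Sylow p X) := (Nat.card_eq_one_iff_unique.1 h2).1
  exact c.notNormal (Sylow.normal_of_subsingleton c.U)

theorem fixed_mod : ∃ e i : ℕ, e ≤ 1 ∧ Nat.card c.Fixed = e + i * ((q - 1) / 2) := by
  classical
  haveI := c.cycT
  obtain ⟨a, ha⟩ := IsCyclic.exists_generator (α := c.T)
  have hord : orderOf (a : X) = q - 1 := by
    rw [orderOf_coe, orderOf_eq_card_of_forall_mem_zpowers ha, c.cardT]
  let T₂ : Subgroup X := zpowers ((a : X) ^ 2)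
  have hT2T : T₂ ≤ c.T := zpowers_le.2 (pow_mem a.2 2)
  have hcard2 : Nat.card T₂ = (q - 1) / 2 := by
    rw [Nat.card_zpowers, orderOf_pow, hord, Nat.gcd_eq_right (by have := c.q4; omega)]
  have ht2 : c.t ∉ T₂ := fun h => by
    have h2 := orderOf_dvd_natCard (⟨c.t, h⟩ : T₂)
    rw [← orderOf_coe, hcard2, c.ht] at h2
    have := c.q4
    omega
  let α := {V : c.Fixed // ¬ c.IsTop V.1}
  have hstab : ∀ (b : T₂) (V : Sylow p X), V ≠ c.U → c.t • V = V →
      ((b : X) • V ≠ c.U ∧ c.t • (b : X) • V = (b : X) • V) := by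
    intro b V h1 h2
    refine ⟨fun h => h1 ?_, ?_⟩
    · have h3 := congrArg ((b : X)⁻¹ • ·) h
      simp only [inv_smul_smul] at h3
      rw [h3, c.T_smul_U (inv_mem (hT2T b.2))]
    · rw [← mul_smul, c.T_comm c.tT (hT2T b.2), mul_smul, h2]
  have htop : ∀ (b : T₂) (V : Sylow p X), ¬ c.IsTop V → ¬ c.IsTop ((b : X) • V) := by
    intro b V h h'
    exact h (by simpa using c.isTop_smul (inv_mem (hT2T b.2)) h')
  letI : MulAction T₂ α :=
    { smul := fun b V => ⟨⟨(b : X) • V.1.1, hstab b _ V.1.2.1 V.1.2.2⟩, htop b _ V.2⟩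
      one_smul := fun V => Subtype.ext (Subtype.ext (one_smul X V.1.1))
      mul_smul := fun b b' V => Subtype.ext (Subtype.ext (mul_smul (b : X) (b' : X) V.1.1)) }
  have hfree : ∀ V : α, MulAction.stabilizer T₂ V = ⊥ := by
    intro V
    rw [Subgroup.eq_bot_iff_forall]
    intro b hb
    by_contra hne
    refine V.2 (c.isTop_of_fix V.1.2.1 V.1.2.2 (hT2T b.2) (fun e => hne (Subtype.ext e))
      (fun e => ht2 (e ▸ b.2)) ?_)
    exact congrArg (fun W : α => W.1.1) hb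
  have h1 : Nat.card α = Nat.card (MulAction.orbitRel.Quotient T₂ α) * ((q - 1) / 2) := by
    rw [← hcard2, ← Nat.card_prod]
    exact Nat.card_congr (MulAction.selfEquivOrbitsQuotientProd hfree)
  have h2 := Nat.card_congr (Equiv.sumCompl (fun V : c.Fixed => c.IsTop V.1)).symm
  rw [Nat.card_sum] at h2
  refine ⟨Nat.card {V : c.Fixed // c.IsTop V.1}, Nat.card (MulAction.orbitRel.Quotient T₂ α), ?_,
    by rw [h2, ← h1]⟩
  rw [Finite.card_le_one_iff_subsingleton]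
  exact ⟨fun V W => Subtype.ext (Subtype.ext (c.isTop_unique V.2 W.2))⟩

theorem card_fixed : Nat.card c.Fixed = 1 := by
  obtain ⟨e, i, he, hki⟩ := c.fixed_mod
  obtain ⟨m, hm⟩ := c.fixed_add_one_dvd
  have h1 := c.fixed_pos
  have h2 := c.card_fixed_le
  have h4 := c.q4
  set k := Nat.card c.Fixed
  have hm0 : 1 ≤ m := Nat.pos_of_ne_zero (by rintro rfl; omega)
  rcases Nat.eq_zero_or_pos i with rfl | hi
  · omega
  rcases Nat.lt_or_ge m 2 with hm2 | hm2
  · obtain rfl : m = 1 := by omega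
    rcases Nat.lt_or_ge i 2 with hi2 | hi2
    · obtain rfl : i = 1 := by omega
      omega
    · have := Nat.mul_le_mul_right ((q - 1) / 2) hi2
      omega
  · have h5 := Nat.mul_le_mul_left (k + 1) hm2
    have h6 := Nat.mul_le_mul_right ((q - 1) / 2) hi
    omega

include c in
theorem card_sylow_eq : Nat.card (Sylow p X) = q + 1 := by
  rw [c.card_sylow, c.card_fixed]; omega

end Config

end CfsgLib.PSpLocal
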