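import Mathlib.FieldTheory.Finite.Basic
import Mathlib.LinearAlgebra.Matrix.GeneralLinearGroup.Projective
import Cfsg.Agent.PSpLocal.Count
import Cfsg.Agent.Classification.SharplyThreeProjective.Odd
import Cfsg.Agent.Solvable.Gaschutz

/-!
# The group is `PGL(2, q) × C_{(q-1)/2}`

The common stabiliser `L` of the two Sylow subgroups normalised by `t` is abelian, equal to `T R` with
`R = C_L(U)` central of order `(q - 1) / 2`, and the group modulo `R` is sharply triply transitive.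
-/

set_option autoImplicit false
set_option linter.style.haveILetI false
set_option linter.unusedSectionVars false

namespace CfsgLib.PSpLocal

open Subgroup

/-- The projective general linear groups of isomorphic rings. -/
theorem nonempty_pgl_equiv {n : Type*} [Fintype n] [DecidableEq n] {R S : Type*} [CommRing R] [CommRing S]
    (e : R ≃+* S) : Nonempty (Matrix.ProjGenLinGroup n R ≃* Matrix.ProjGenLinGroup n S) := by
  let f : GL n R ≃* GL n S := Units.mapEquiv (RingEquiv.mapMatrix e).toMulEquiv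
  refine ⟨QuotientGroup.congr (Subgroup.center (GL n R)) (Subgroup.center (GL n S)) f ?_⟩
  ext x
  simp only [Subgroup.mem_map, Subgroup.mem_center_iff]
  constructor
  · rintro ⟨y, hy, rfl⟩ g
    have h := congrArg f (hy (f.symm g))
    simpa using h
  · intro h
    refine ⟨f.symm x, fun g => f.injective ?_, by simp⟩
    simpa using h (f g)

namespace Config

variable {X M : Type*} [Group X] [Finite X] [CommGroup M] [Finite M] [MulDistribMulAction X M]
  {p q : ℕ} (c : Config X M p q)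

theorem exists_second : ∃ V : Sylow p X, V ≠ c.U ∧ c.t • V = V ∧
    ∀ W : Sylow p X, W ≠ c.U → c.t • W = W → W = V := by
  obtain ⟨hs, ⟨V, h1, h2⟩⟩ := Nat.card_eq_one_iff_unique.1 c.card_fixed
  exact ⟨V, h1, h2, fun W h3 h4 => congrArg Subtype.val (Subsingleton.elim (⟨W, h3, h4⟩ : c.Fixed) ⟨V, h1, h2⟩)⟩

/-- The second Sylow subgroup normalised by `t`. -/
noncomputable def V₀ : Sylow p X := c.exists_second.choose

theorem V₀_ne : c.V₀ ≠ c.U := c.exists_second.choose_spec.1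

theorem t_V₀ : c.t • c.V₀ = c.V₀ := c.exists_second.choose_spec.2.1

theorem eq_V₀ {W : Sylow p X} (h : W ≠ c.U) (ht : c.t • W = W) : W = c.V₀ :=
  c.exists_second.choose_spec.2.2 W h ht

theorem fixed_cases {W : Sylow p X} (ht : c.t • W = W) : W = c.U ∨ W = c.V₀ :=
  (em (W = c.U)).imp_right fun h => c.eq_V₀ h ht

theorem C_fixed {g : X} (hg : g ∈ c.C) {W : Sylow p X} (hW : c.t • W = W) :
    c.t • g • W = g • W := by
  rw [← mul_smul, ← c.mem_C.1 hg, mul_smul, hW]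

theorem mem_L {g : X} : g ∈ c.L ↔ g • c.U = c.U ∧ g ∈ c.C := Iff.rfl

theorem L_V₀ {l : X} (hl : l ∈ c.L) : l • c.V₀ = c.V₀ := by
  refine c.eq_V₀ (fun h => c.V₀_ne ?_) (c.C_fixed hl.2 c.t_V₀)
  exact MulAction.injective l (h.trans (c.mem_L.1 hl).1.symm)

theorem T_le_L : c.T ≤ c.L := fun a ha => ⟨c.T_smul_U ha, c.mem_C.2 (c.T_comm ha c.tT)⟩

theorem L_inf_U {u : X} (hu : u ∈ (c.U : Subgroup X)) (hl : u ∈ c.L) : u = 1 :=
  (c.fpfT c.t c.tT u hu (c.mem_C.1 hl.2).symm).resolve_left c.t_ne_one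

theorem stab_decomp {g : X} (hg : g • c.U = c.U) :
    ∃ u ∈ (c.U : Subgroup X), ∃ l ∈ c.L, g = u * l := by
  obtain ⟨v, hv, hgv⟩ := c.exists_L (g := g) hg (c.T_smul_U c.tT)
  have hgvg : g * v * g⁻¹ ∈ (c.U : Subgroup X) := by
    have h := c.mem_smul_iff.2 (show g⁻¹ * (g * v * g⁻¹) * g ∈ (c.U : Subgroup X) by
      simpa [mul_assoc] using hv)
    rwa [hg] at h
  refine ⟨(g * v * g⁻¹)⁻¹, inv_mem hgvg, g * v, c.mem_L.2 ⟨?_, hgv⟩, by group⟩
  rw [mul_smul, c.smul_U hv, hg]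

theorem eq_T_of_L_B {b : X} (hl : b ∈ c.L) (hb : b ∈ c.B) : b ∈ c.T := by
  obtain ⟨u, hu, a, ha, rfl⟩ := c.mem_B.1 hb
  have := c.L_inf_U hu (by simpa using mul_mem hl (inv_mem (c.T_le_L ha)))
  rw [this, one_mul]
  exact ha

theorem L_conj_T {l a : X} (hl : l ∈ c.L) (ha : a ∈ c.T) : l * a * l⁻¹ ∈ c.T := by
  refine c.eq_T_of_L_B (mul_mem (mul_mem hl (c.T_le_L ha)) (inv_mem hl)) ?_
  obtain ⟨z, hz, -, -, hz1, -, -⟩ := c.fus
  refine (c.stabZ z hz hz1 _).1 ?_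
  have h1 : l⁻¹ • z ∈ c.Z := c.smul_mem_Z (g := l⁻¹) (c.mem_L.1 (inv_mem hl)).1 hz
  rw [mul_smul, mul_smul, c.fix_B h1 (c.T_le_B ha), smul_inv_smul]

theorem exists_swap : ∃ g : X, g ∈ c.C ∧ g • c.U = c.V₀ ∧ g • c.V₀ = c.U := by
  haveI := c.fact_p
  obtain ⟨g, hg⟩ := MulAction.exists_smul_eq X c.U c.V₀
  obtain ⟨v, hv, hgv⟩ := c.exists_L hg c.t_V₀
  have hU : (g * v) • c.U = c.V₀ := by rw [mul_smul, c.smul_U hv, hg]
  refine ⟨g * v, hgv, hU, ?_⟩
  rcases c.fixed_cases (c.C_fixed hgv c.t_V₀) with h | h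
  · exact h
  · exact absurd (MulAction.injective (g * v) (h.trans hU.symm)) c.V₀_ne

/-- An element of `C(t)` exchanging the two Sylow subgroups. -/
noncomputable def g₀ : X := c.exists_swap.choose

theorem g₀_C : c.g₀ ∈ c.C := c.exists_swap.choose_spec.1

theorem g₀_U : c.g₀ • c.U = c.V₀ := c.exists_swap.choose_spec.2.1

theorem g₀_V₀ : c.g₀ • c.V₀ = c.U := c.exists_swap.choose_spec.2.2

theorem g₀_inv_U : c.g₀⁻¹ • c.U = c.V₀ := by rw [inv_smul_eq_iff, c.g₀_V₀]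

theorem g₀_inv_V₀ : c.g₀⁻¹ • c.V₀ = c.U := by rw [inv_smul_eq_iff, c.g₀_U]

theorem g₀_conj_L {l : X} (hl : l ∈ c.L) : c.g₀ * l * c.g₀⁻¹ ∈ c.L ∧ c.g₀⁻¹ * l * c.g₀ ∈ c.L := by
  refine ⟨c.mem_L.2 ⟨?_, mul_mem (mul_mem c.g₀_C hl.2) (inv_mem c.g₀_C)⟩,
    c.mem_L.2 ⟨?_, mul_mem (mul_mem (inv_mem c.g₀_C) hl.2) c.g₀_C⟩⟩
  · rw [mul_smul, mul_smul, c.g₀_inv_U, c.L_V₀ hl, c.g₀_V₀]
  · rw [mul_smul, mul_smul, c.g₀_U, c.L_V₀ hl, c.g₀_inv_V₀]

/-- The conjugate of `T` attached to the second Sylow subgroup. -/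
noncomputable def T' : Subgroup X := c.T.map (MulAut.conj c.g₀).toMonoidHom

theorem mem_T' {x : X} : x ∈ c.T' ↔ ∃ a ∈ c.T, x = c.g₀ * a * c.g₀⁻¹ := by
  simp [T', Subgroup.mem_map, eq_comm]

theorem T'_le_L : c.T' ≤ c.L := fun x hx => by
  obtain ⟨a, ha, rfl⟩ := c.mem_T'.1 hx
  exact (c.g₀_conj_L (c.T_le_L ha)).1

theorem L_conj_T' {l x : X} (hl : l ∈ c.L) (hx : x ∈ c.T') : l * x * l⁻¹ ∈ c.T' := by
  obtain ⟨a, ha, rfl⟩ := c.mem_T'.1 hx
  refine c.mem_T'.2 ⟨_, c.L_conj_T (c.g₀_conj_L hl).2 ha, ?_⟩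
  group

theorem t_mem_T' : c.t ∈ c.T' :=
  c.mem_T'.2 ⟨c.t, c.tT, by rw [c.mem_C.1 c.g₀_C, mul_inv_cancel_right]⟩

theorem T_inf_T' {x : X} (hT : x ∈ c.T) (hT' : x ∈ c.T') : x = 1 ∨ x = c.t := by
  by_contra hne
  push Not at hne
  obtain ⟨a, ha, rfl⟩ := c.mem_T'.1 hT'
  obtain ⟨z, hz, -, -, hz1, -, -⟩ := c.fus
  have hfix : (c.g₀ * a * c.g₀⁻¹) • c.g₀ • z = c.g₀ • z := by
    rw [← mul_smul, inv_mul_cancel_right, mul_smul, c.fix_B hz (c.T_le_B ha)]
  have hon : c.OnSylow c.V₀ (c.g₀ • z) := c.g₀_U ▸ c.onSylow_smul c.g₀ (c.onSylow_U.2 hz)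
  obtain ⟨z', hz', w, hw, he⟩ := c.decomp₀ (c.fix_t_or _ c.t_V₀ hon : c.g₀ • z ∈ c.M₀)
  rw [he, smul_mul', c.fix_B hz' (c.T_le_B hT), mul_right_inj] at hfix
  have hw1 := c.freeW₂ _ hT hne.1 hne.2 w hw hfix
  rw [hw1, mul_one] at he
  exact c.V₀_ne (c.onSylow_unique (fun h => hz1 (smul_eq_one'.1 h)) hon
    (c.onSylow_U.2 (he.symm ▸ hz')))

theorem commute_T_T' {a b : X} (ha : a ∈ c.T) (hb : b ∈ c.T') : Commute a b := by
  have key : ∀ x ∈ c.T, b * x * b⁻¹ = x ∨ b * x * b⁻¹ = c.t * x := by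
    intro x hx
    have h1 : b * x * b⁻¹ * x⁻¹ ∈ c.T := mul_mem (c.L_conj_T (c.T'_le_L hb) hx) (inv_mem hx)
    have h2 : b * x * b⁻¹ * x⁻¹ ∈ c.T' := by
      have := mul_mem hb (c.L_conj_T' (c.T_le_L hx) (inv_mem hb))
      simpa [mul_assoc] using this
    rcases c.T_inf_T' h1 h2 with h | h
    · exact Or.inl (mul_inv_eq_one.1 h)
    · exact Or.inr (mul_inv_eq_iff_eq_mul.1 h)
  have hsq : b * (a * a) * b⁻¹ = a * a := by
    rcases key a ha with h | h
    · calc b * (a * a) * b⁻¹ = (b * a * b⁻¹) * (b * a * b⁻¹) := by group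
        _ = a * a := by rw [h]
    · calc b * (a * a) * b⁻¹ = (b * a * b⁻¹) * (b * a * b⁻¹) := by group
        _ = (c.t * c.t) * (a * a) := by
          rw [h, mul_assoc, ← mul_assoc a, c.T_comm ha c.tT]; group
        _ = a * a := by rw [c.t_sq, one_mul]
  have h2 : Commute (a * a) b := (mul_inv_eq_iff_eq_mul.1 hsq).symm
  -- `a` is a power of `a * a` times an element of order two
  set m := (q - 1) / 2 with hm
  have hmodd : Odd m := by rw [Nat.odd_iff]; have := c.q4; omega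
  obtain ⟨k, hk⟩ := hmodd
  have ham : a ^ m * a ^ m = 1 := by
    rw [← pow_add]
    have h3 : (⟨a, ha⟩ : c.T) ^ (q - 1) = 1 := by
      conv_lhs => arg 2; rw [← c.cardT]
      exact pow_card_eq_one'
    have h4 : a ^ (q - 1) = 1 := congrArg Subtype.val h3
    rwa [show m + m = q - 1 by have := c.q4; omega]
  have hcm : Commute (a ^ m) b := by
    rcases c.eq_one_or_t_of_sq (pow_mem ha m) ham with h | h
    · rw [h]; exact Commute.one_left b
    · rw [h]; exact (c.mem_C.1 (c.T'_le_L hb).2).symm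
  have hae : a = (a * a) ^ (k + 1) * (a ^ m)⁻¹ := by
    rw [← pow_two, ← pow_mul, show 2 * (k + 1) = m + 1 by omega, pow_succ',
      mul_inv_cancel_right]
  rw [hae]
  exact (h2.pow_left _).mul_left hcm.inv_left

theorem L_facts : Nat.card c.L = (q - 1) * ((q - 1) / 2) ∧
    ∀ l ∈ c.L, ∃ a ∈ c.T, ∃ b ∈ c.T', l = a * b := by
  classical
  haveI := c.cycT
  let f : c.T × c.T' →* c.L :=
    { toFun := fun x => ⟨x.1 * x.2, mul_mem (c.T_le_L x.1.2) (c.T'_le_L x.2.2)⟩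
      map_one' := Subtype.ext (by simp)
      map_mul' := fun x y => Subtype.ext (by
        simp only [Subgroup.coe_mul, Prod.fst_mul, Prod.snd_mul]
        exact (c.commute_T_T' y.1.2 x.2.2).mul_mul_mul_comm _ _) }
  have hker : Nat.card f.ker = 2 := by
    have e : Nat.card f.ker = Nat.card {x : c.T // (x : X) = 1 ∨ (x : X) = c.t} := by
      refine Nat.card_congr (Equiv.ofBijective (fun y : f.ker => (⟨y.1.1, ?_⟩ :
        {x : c.T // (x : X) = 1 ∨ (x : X) = c.t})) ⟨?_, ?_⟩)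
      · have h : (y.1.1 : X) * y.1.2 = 1 := congrArg Subtype.val y.2
        refine c.T_inf_T' y.1.1.2 ?_
        rw [mul_eq_one_iff_eq_inv] at h
        rw [h]
        exact inv_mem y.1.2.2
      · rintro ⟨⟨a, b⟩, h⟩ ⟨⟨a', b'⟩, h'⟩ he
        have ha : a = a' := congrArg Subtype.val he
        subst ha
        have h1 : (a : X) * b = 1 := congrArg Subtype.val h
        have h2 : (a : X) * b' = 1 := congrArg Subtype.val h'
        have hb : b = b' := Subtype.ext (mul_left_cancel (h1.trans h2.symm))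
        subst hb
        rfl
      · rintro ⟨⟨x, hx⟩, hx2⟩
        have hx' : x⁻¹ ∈ c.T' := by
          rcases hx2 with h | h
          · exact (show x = 1 from h) ▸ by simp
          · exact (show x = c.t from h) ▸ inv_mem c.t_mem_T'
        exact ⟨⟨(⟨x, hx⟩, ⟨x⁻¹, hx'⟩), Subtype.ext (mul_inv_cancel x)⟩, rfl⟩
    rw [e]
    have e2 : {x : c.T // (x : X) = 1 ∨ (x : X) = c.t} ≃ ({1, ⟨c.t, c.tT⟩} : Finset c.T) :=
      Equiv.subtypeEquivRight (fun x => by rw [Finset.mem_insert, Finset.mem_singleton, Subtype.ext_iff, Subtype.ext_iff]; rfl)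
    rw [Nat.card_congr e2, Nat.card_eq_finsetCard, Finset.card_pair]
    exact fun h => c.t_ne_one (congrArg Subtype.val h).symm
  have hT' : Nat.card c.T' = q - 1 := by
    rw [T', ← Nat.card_congr (Subgroup.equivMapOfInjective c.T _ (MulAut.conj c.g₀).injective).toEquiv,
      c.cardT]
  have hrange : Nat.card f.range = (q - 1) * ((q - 1) / 2) := by
    have h := Subgroup.card_eq_card_quotient_mul_card_subgroup f.ker
    rw [Nat.card_congr (QuotientGroup.quotientKerEquivRange f).toEquiv, hker, Nat.card_prod,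
      c.cardT, hT'] at h
    have h2 : q - 1 = (q - 1) / 2 * 2 := by have := c.q4; omega
    nth_rewrite 2 [h2] at h
    rw [← mul_assoc] at h
    exact (mul_right_cancel₀ two_ne_zero h).symm
  -- the orbit of a point of `Z` is short
  have hlt : Nat.card c.L < (q - 1) * (q - 1) := by
    obtain ⟨z, hz, z', hz', hz1, hz1', hno⟩ := c.fus
    have h := Nat.card_congr (MulAction.orbitProdStabilizerEquivGroup c.L z)
    rw [Nat.card_prod] at h
    have hst : Nat.card (MulAction.stabilizer c.L z) = q - 1 := by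
      rw [← c.cardT]
      exact Nat.card_congr
        { toFun := fun g => ⟨g.1.1, c.eq_T_of_L_B g.1.2 ((c.stabZ z hz hz1 _).1 g.2)⟩
          invFun := fun a => ⟨⟨a.1, c.T_le_L a.2⟩, c.fix_B hz (c.T_le_B a.2)⟩
          left_inv := fun _ => rfl
          right_inv := fun _ => rfl }
    have hsub : MulAction.orbit c.L z ⊆ ((c.Z : Set M) \ {1, z'}) := by
      rintro _ ⟨⟨l, hl⟩, rfl⟩
      refine ⟨c.smul_mem_Z (c.mem_L.1 hl).1 hz, ?_⟩
      rintro (h | h)
      · exact hz1 (smul_eq_one'.1 h)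
      · exact hno l h
    have hle := Set.ncard_le_ncard hsub
    rw [Set.ncard_sdiff (by simp [Set.insert_subset_iff, hz', one_mem]),
      Set.ncard_pair (Ne.symm hz1')] at hle
    rw [← Nat.card_coe_set_eq] at hle
    have hZ : (c.Z : Set M).ncard = q := by rw [← Nat.card_coe_set_eq]; exact c.cardZ
    rw [hZ] at hle
    rw [← h, hst]
    exact Nat.mul_lt_mul_of_pos_right (by have := c.three_le; omega) (by have := c.three_le; omega)
  -- hence `L = T T'`
  have hcard : Nat.card c.L = (q - 1) * ((q - 1) / 2) := by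
    obtain ⟨i, hi⟩ : (q - 1) * ((q - 1) / 2) ∣ Nat.card c.L :=
      hrange ▸ Subgroup.card_subgroup_dvd_card f.range
    have h2 : q - 1 = (q - 1) / 2 * 2 := by have := c.q4; omega
    have hi0 : 0 < i := Nat.pos_of_ne_zero fun h => by
      rw [h, mul_zero] at hi
      exact (Nat.card_pos (α := c.L)).ne' hi
    have hi2 : i < 2 := by
      rw [hi] at hlt
      nth_rewrite 4 [h2] at hlt
      rw [mul_assoc] at hlt
      exact Nat.lt_of_mul_lt_mul_left (Nat.lt_of_mul_lt_mul_left hlt)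
    rw [hi, show i = 1 by omega, mul_one]
  refine ⟨hcard, fun l hl => ?_⟩
  have htop : f.range = ⊤ := Subgroup.eq_top_of_card_eq _ (hrange.trans hcard.symm)
  obtain ⟨⟨a, b⟩, h⟩ : (⟨l, hl⟩ : c.L) ∈ f.range := htop ▸ Subgroup.mem_top _
  exact ⟨a, a.2, b, b.2, (congrArg Subtype.val h).symm⟩

theorem L_comm {l l' : X} (hl : l ∈ c.L) (hl' : l' ∈ c.L) : l * l' = l' * l := by
  obtain ⟨a, ha, b, hb, rfl⟩ := c.L_facts.2 l hl
  obtain ⟨a', ha', b', hb', rfl⟩ := c.L_facts.2 l' hl'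
  have hTT : ∀ {x y}, x ∈ c.T → y ∈ c.T → Commute x y := fun hx hy => c.T_comm hx hy
  have hTT' : ∀ {x y}, x ∈ c.T' → y ∈ c.T' → Commute x y := by
    intro x y hx hy
    obtain ⟨a₁, ha₁, rfl⟩ := c.mem_T'.1 hx
    obtain ⟨a₂, ha₂, rfl⟩ := c.mem_T'.1 hy
    exact (hTT ha₁ ha₂).map (MulAut.conj c.g₀).toMonoidHom
  exact ((hTT ha ha').mul_left (c.commute_T_T' ha' hb).symm).mul_right
    ((c.commute_T_T' ha hb').mul_left (hTT' hb hb'))

/-- The centraliser of `U` in `L`. -/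
def R : Subgroup X := c.L ⊓ centralizer ((c.U : Subgroup X) : Set X)

theorem mem_R {r : X} : r ∈ c.R ↔ r ∈ c.L ∧ ∀ u ∈ (c.U : Subgroup X), u * r = r * u :=
  and_congr_right fun _ => mem_centralizer_iff

theorem R_inf_T {x : X} (hR : x ∈ c.R) (hT : x ∈ c.T) : x = 1 := by
  obtain ⟨u, hu, hu1⟩ : ∃ u ∈ (c.U : Subgroup X), u ≠ 1 := by
    by_contra h
    push Not at h
    have h2 := c.cardU
    rw [(Subgroup.eq_bot_iff_forall _).2 h, Subgroup.card_bot] at h2
    have := c.three_le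
    omega
  exact (c.fpfT x hT u hu ((c.mem_R.1 hR).2 u hu).symm).resolve_right hu1

/-- `T` is regular on `U \ 1`. -/
theorem exists_T_conj {u v : X} (hu : u ∈ (c.U : Subgroup X)) (hu1 : u ≠ 1)
    (hv : v ∈ (c.U : Subgroup X)) (hv1 : v ≠ 1) : ∃ a ∈ c.T, a * u * a⁻¹ = v := by
  have hmem : ∀ a : c.T, (a : X) * u * (a : X)⁻¹ ∈ (c.U : Subgroup X) ∧
      (a : X) * u * (a : X)⁻¹ ∉ (⊥ : Subgroup X) :=
    fun a => ⟨c.conj_mem_U a.2 hu, fun h => hu1 (conj_eq_one_iff.1 (Subgroup.mem_bot.1 h))⟩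
  have hb : Function.Bijective (fun a : c.T => (⟨(a : X) * u * (a : X)⁻¹, hmem a⟩ :
      {x : X // x ∈ (c.U : Subgroup X) ∧ x ∉ (⊥ : Subgroup X)})) := by
    rw [Nat.bijective_iff_injective_and_card]
    refine ⟨?_, ?_⟩
    · intro a b h
      have h0 : (a : X) * u * (a : X)⁻¹ = (b : X) * u * (b : X)⁻¹ := congrArg Subtype.val h
      have h1 : ((b : X)⁻¹ * a) * u = u * ((b : X)⁻¹ * a) := by
        calc ((b : X)⁻¹ * a) * u = (b : X)⁻¹ * ((a : X) * u * (a : X)⁻¹) * a := by group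
          _ = u * ((b : X)⁻¹ * a) := by rw [h0]; group
      rcases c.fpfT _ (mul_mem (inv_mem b.2) a.2) u hu h1 with h2 | h2
      · exact Subtype.ext (inv_mul_eq_one.1 h2).symm
      · exact absurd h2 hu1
    · have e : {x : X // x ∈ (c.U : Subgroup X) ∧ x ∉ (⊥ : Subgroup X)} ≃
          ↑(((c.U : Subgroup X) : Set X) \ {1}) :=
        Equiv.subtypeEquivRight (fun x => by rw [Subgroup.mem_bot]; rfl)
      rw [Nat.card_congr e, Nat.card_coe_set_eq, Set.ncard_sdiff (by simp [one_mem]),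
        Set.ncard_singleton, ← Nat.card_coe_set_eq, c.cardT]
      exact congrArg (· - 1) c.cardU.symm
  obtain ⟨a, ha⟩ := hb.2 ⟨v, hv, fun h => hv1 (Subgroup.mem_bot.1 h)⟩
  exact ⟨a, a.2, congrArg Subtype.val ha⟩

theorem decomp_L {l : X} (hl : l ∈ c.L) : ∃ a ∈ c.T, ∃ r ∈ c.R, l = a * r := by
  obtain ⟨u, hu, hu1⟩ : ∃ u ∈ (c.U : Subgroup X), u ≠ 1 := by
    by_contra h
    push Not at h
    have h2 := c.cardU
    rw [(Subgroup.eq_bot_iff_forall _).2 h, Subgroup.card_bot] at h2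
    have := c.three_le
    omega
  have hlu : l * u * l⁻¹ ∈ (c.U : Subgroup X) :=
    (mem_normalizer_iff.1 (Sylow.smul_eq_iff_mem_normalizer.1 (c.mem_L.1 hl).1) u).1 hu
  obtain ⟨a, ha, hau⟩ := c.exists_T_conj hu hu1 hlu (fun h => hu1 (conj_eq_one_iff.1 h))
  have hr : a⁻¹ * l ∈ c.L := mul_mem (inv_mem (c.T_le_L ha)) hl
  refine ⟨a, ha, a⁻¹ * l, c.mem_R.2 ⟨hr, ?_⟩, by group⟩
  have h0 : (a⁻¹ * l) * u * (a⁻¹ * l)⁻¹ = u := by
    calc (a⁻¹ * l) * u * (a⁻¹ * l)⁻¹ = a⁻¹ * (l * u * l⁻¹) * a := by group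
      _ = u := by rw [← hau]; group
  intro v hv
  by_cases hv1 : v = 1
  · rw [hv1, one_mul, mul_one]
  obtain ⟨b, hb, rfl⟩ := c.exists_T_conj hu hu1 hv hv1
  have h1 : Commute (a⁻¹ * l) u := mul_inv_eq_iff_eq_mul.1 h0
  have h2 : Commute (a⁻¹ * l) b := c.L_comm hr (c.T_le_L hb)
  exact (((h2.mul_right h1).mul_right h2.inv_right)).symm

theorem card_R : Nat.card c.R = (q - 1) / 2 := by
  have hb : Function.Bijective (fun x : c.T × c.R =>
      (⟨(x.1 : X) * x.2, mul_mem (c.T_le_L x.1.2) x.2.2.1⟩ : c.L)) := by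
    constructor
    · rintro ⟨⟨a, ha⟩, ⟨r, hr⟩⟩ ⟨⟨a', ha'⟩, ⟨r', hr'⟩⟩ h
      have h0 : a * r = a' * r' := congrArg Subtype.val h
      have h1 : a'⁻¹ * a = r' * r⁻¹ := by
        rw [eq_mul_inv_iff_mul_eq, mul_assoc, h0, inv_mul_cancel_left]
      have h2 := c.R_inf_T (h1 ▸ mul_mem hr' (inv_mem hr)) (mul_mem (inv_mem ha') ha)
      rw [h2, eq_comm, mul_inv_eq_one] at h1
      rw [inv_mul_eq_one] at h2
      subst h1 h2
      rfl
    · rintro ⟨l, hl⟩
      obtain ⟨a, ha, r, hr, rfl⟩ := c.decomp_L hl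
      exact ⟨(⟨a, ha⟩, ⟨r, hr⟩), rfl⟩
  have h := Nat.card_congr (Equiv.ofBijective _ hb)
  rw [Nat.card_prod, c.cardT, c.L_facts.1] at h
  exact mul_left_cancel₀ (by have := c.three_le; omega) h

theorem cyclic_R : IsCyclic c.R := by
  haveI := c.cycT
  haveI : IsCyclic c.T' :=
    isCyclic_of_surjective (Subgroup.equivMapOfInjective c.T _ (MulAut.conj c.g₀).injective).toMonoidHom
      (MulEquiv.surjective _)
  have hdec : ∀ b : c.T', ∃ r : c.R, ∃ a ∈ c.T, (b : X) = a * r := fun b => by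
    obtain ⟨a, ha, r, hr, h⟩ := c.decomp_L (c.T'_le_L b.2)
    exact ⟨⟨r, hr⟩, a, ha, h⟩
  choose ρ α hα hρ using hdec
  have huniq : ∀ (b : c.T') (r : c.R) (a : X), a ∈ c.T → (b : X) = a * r → ρ b = r := by
    intro b r a ha h
    have h0 := (hρ b).symm.trans h
    have h1 : a⁻¹ * α b = (r : X) * (ρ b : X)⁻¹ := by
      rw [eq_mul_inv_iff_mul_eq, mul_assoc, h0, inv_mul_cancel_left]
    have h2 := c.R_inf_T (h1 ▸ mul_mem r.2 (inv_mem (ρ b).2)) (mul_mem (inv_mem ha) (hα b))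
    rw [h2, eq_comm, mul_inv_eq_one] at h1
    exact Subtype.ext h1.symm
  let f : c.T' →* c.R := MonoidHom.mk' ρ fun b b' => huniq _ _ (α b * α b')
    (mul_mem (hα b) (hα b')) (by
      rw [Subgroup.coe_mul, Subgroup.coe_mul, hρ b, hρ b']
      exact (show Commute (ρ b : X) (α b') from
        c.L_comm (ρ b).2.1 (c.T_le_L (hα b'))).mul_mul_mul_comm _ _)
  refine isCyclic_of_surjective f fun r => ?_
  obtain ⟨a, ha, b, hb, h⟩ := c.L_facts.2 r r.2.1
  refine ⟨⟨b, hb⟩, huniq _ r a⁻¹ (inv_mem ha) ?_⟩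
  rw [h, inv_mul_cancel_left]

theorem exists_orbit {W : Sylow p X} (hW : W ≠ c.U) : ∃ u ∈ (c.U : Subgroup X), W = u • c.V₀ := by
  obtain ⟨u, hu, hfix⟩ := c.exists_u_fix_sylow hW
  refine ⟨u⁻¹, inv_mem hu, ?_⟩
  rw [eq_inv_smul_iff]
  refine c.eq_V₀ (fun h => hW (MulAction.injective u (h.trans (c.smul_U hu).symm))) hfix

theorem mem_L_of_fix {g : X} (hU : g • c.U = c.U) (hV : g • c.V₀ = c.V₀) : g ∈ c.L := by
  obtain ⟨u, hu, l, hl, rfl⟩ := c.stab_decomp hU
  rw [mul_smul, c.L_V₀ hl] at hV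
  rw [c.eq_one_of_fix c.V₀_ne hu hV, one_mul]
  exact hl

theorem R_eq_ker : c.R = (MulAction.toPermHom X (Sylow p X)).ker := by
  ext g
  rw [MonoidHom.mem_ker]
  constructor
  · intro hg
    refine Equiv.ext fun W => ?_
    change g • W = W
    by_cases hW : W = c.U
    · rw [hW]; exact (c.mem_L.1 hg.1).1
    · obtain ⟨u, hu, rfl⟩ := c.exists_orbit hW
      rw [← mul_smul, ← (c.mem_R.1 hg).2 u hu, mul_smul, c.L_V₀ hg.1]
  · intro hg
    have hfix : ∀ W : Sylow p X, g • W = W := fun W => Equiv.ext_iff.1 hg W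
    have hgL := c.mem_L_of_fix (hfix _) (hfix _)
    refine c.mem_R.2 ⟨hgL, fun u hu => ?_⟩
    have h1 : u⁻¹ * g * u ∈ c.L := c.mem_L_of_fix
      (by rw [mul_smul, mul_smul, hfix, inv_smul_smul])
      (by rw [mul_smul, mul_smul, hfix, inv_smul_smul])
    have h2 : u⁻¹ * (g * u * g⁻¹) ∈ (c.U : Subgroup X) :=
      mul_mem (inv_mem hu) ((mem_normalizer_iff.1
        (Sylow.smul_eq_iff_mem_normalizer.1 (hfix c.U)) u).1 hu)
    have h3 := c.L_inf_U h2 (by
      have := mul_mem h1 (inv_mem hgL)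
      simpa [mul_assoc] using this)
    rw [inv_mul_eq_one, eq_mul_inv_iff_mul_eq] at h3
    exact h3

theorem R_normal : c.R.Normal := by rw [c.R_eq_ker]; infer_instance

theorem R_le_center : c.R ≤ center X := by
  haveI := c.fact_p
  haveI := c.R_normal
  set H := centralizer (c.R : Set X) with hH
  have hsyl : ∀ W : Sylow p X, (W : Subgroup X) ≤ H := by
    intro W x hx
    obtain ⟨g, rfl⟩ := MulAction.exists_smul_eq X c.U W
    rw [c.mem_smul_iff] at hx
    refine mem_centralizer_iff.2 fun r hr => ?_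
    have h1 : g⁻¹ * r * g ∈ c.R := by
      simpa using Subgroup.Normal.conj_mem inferInstance r hr g⁻¹
    have h2 := (c.mem_R.1 h1).2 _ hx
    calc r * x = g * ((g⁻¹ * r * g) * (g⁻¹ * x * g)) * g⁻¹ := by group
      _ = x * r := by rw [← h2]; group
  have hL : c.L ≤ H := fun l hl => mem_centralizer_iff.2 fun r hr => c.L_comm hr.1 hl
  have hstab : ∀ g : X, g • c.U = c.U → g ∈ H := fun g hg => by
    obtain ⟨u, hu, l, hl, rfl⟩ := c.stab_decomp hg
    exact mul_mem (hsyl _ hu) (hL hl)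
  obtain ⟨v, hv, hv1⟩ : ∃ v ∈ (c.V₀ : Subgroup X), v • c.U ≠ c.U := by
    by_contra h
    push Not at h
    refine c.V₀_ne (c.eq_U_of_le_B fun v hv => ?_)
    have hp : IsPGroup p ↥(Subgroup.zpowers v) := c.V₀.2.to_le ((zpowers_le).2 hv)
    have h2 := c.U.2.to_sup_of_normal_left' hp
      ((zpowers_le).2 (Sylow.smul_eq_iff_mem_normalizer.1 (h v hv)))
    exact c.U_le_B (c.U.is_maximal' h2 le_sup_left ▸
      (le_sup_right (α := Subgroup X) (mem_zpowers v)))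
  have hVU : ∃ h ∈ H, h • c.U = c.V₀ := by
    obtain ⟨u, hu, he⟩ := c.exists_orbit hv1
    exact ⟨u⁻¹ * v, mul_mem (inv_mem (hsyl _ hu)) (hsyl _ hv), by rw [mul_smul, he, inv_smul_smul]⟩
  intro r hr
  refine mem_center_iff.2 fun x => ?_
  suffices hx : x ∈ H from (mem_centralizer_iff.1 hx r hr).symm
  by_cases hxU : x • c.U = c.U
  · exact hstab x hxU
  · obtain ⟨u, hu, he⟩ := c.exists_orbit hxU
    obtain ⟨h, hh, hhU⟩ := hVU
    have h2 : (u * h)⁻¹ * x ∈ H := hstab _ (by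
      rw [mul_smul, he, inv_smul_eq_iff, mul_smul, hhU])
    have h3 := mul_mem (mul_mem (hsyl _ hu) hh) h2
    rwa [mul_inv_cancel_left] at h3

theorem conj_V₀ {a u : X} (ha : a ∈ c.L) : a • u • c.V₀ = (a * u * a⁻¹) • c.V₀ := by
  rw [mul_smul, mul_smul, c.L_V₀ (inv_mem ha)]

theorem exists_std {V₁ V₂ V₃ : Sylow p X} (h12 : V₁ ≠ V₂) (h13 : V₁ ≠ V₃) (h23 : V₂ ≠ V₃)
    {u : X} (hu : u ∈ (c.U : Subgroup X)) (hu1 : u ≠ 1) :
    ∃ g : X, g • V₁ = c.U ∧ g • V₂ = c.V₀ ∧ g • V₃ = u • c.V₀ := by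
  haveI := c.fact_p
  obtain ⟨g, hg⟩ := MulAction.exists_smul_eq X V₁ c.U
  obtain ⟨v, hv, hgv⟩ := c.exists_orbit (W := g • V₂) (fun h => h12 (MulAction.injective g (hg.trans h.symm)))
  have hg1 : (v⁻¹ * g) • V₁ = c.U := by rw [mul_smul, hg, c.smul_U (inv_mem hv)]
  have hg2 : (v⁻¹ * g) • V₂ = c.V₀ := by rw [mul_smul, hgv, inv_smul_smul]
  obtain ⟨w, hw, hgw⟩ := c.exists_orbit (W := (v⁻¹ * g) • V₃)
    (fun h => h13 (MulAction.injective (v⁻¹ * g) (hg1.trans h.symm)))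
  have hw1 : w ≠ 1 := fun h => by
    rw [h, one_smul] at hgw
    exact h23 (MulAction.injective (v⁻¹ * g) (hg2.trans hgw.symm))
  obtain ⟨a, ha, hau⟩ := c.exists_T_conj hw hw1 hu hu1
  refine ⟨a * (v⁻¹ * g), ?_, ?_, ?_⟩
  · rw [mul_smul a (v⁻¹ * g), hg1, c.T_smul_U ha]
  · rw [mul_smul a (v⁻¹ * g), hg2, c.L_V₀ (c.T_le_L ha)]
  · rw [mul_smul a (v⁻¹ * g), hgw, c.conj_V₀ (c.T_le_L ha), hau]

theorem mem_R_of_fix {g : X} {u : X} (hu : u ∈ (c.U : Subgroup X)) (hu1 : u ≠ 1)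
    (h1 : g • c.U = c.U) (h2 : g • c.V₀ = c.V₀) (h3 : g • u • c.V₀ = u • c.V₀) : g ∈ c.R := by
  obtain ⟨a, ha, r, hr, rfl⟩ := c.decomp_L (c.mem_L_of_fix h1 h2)
  have hr' : r • u • c.V₀ = u • c.V₀ := by
    rw [← mul_smul, ← (c.mem_R.1 hr).2 u hu, mul_smul, c.L_V₀ hr.1]
  rw [mul_smul, hr', c.conj_V₀ (c.T_le_L ha)] at h3
  have h4 : (u⁻¹ * (a * u * a⁻¹)) • c.V₀ = c.V₀ := by rw [mul_smul, h3, inv_smul_smul]
  have h5 := c.eq_one_of_fix c.V₀_ne (mul_mem (inv_mem hu) (c.conj_mem_U ha hu)) h4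
  rw [inv_mul_eq_one, eq_mul_inv_iff_mul_eq] at h5
  rcases c.fpfT a ha u hu h5.symm with h | h
  · rwa [h, one_mul]
  · exact absurd h hu1

include c in
/-- The group is `PGL(2, q) × C_{(q-1)/2}`. -/
theorem nonempty_equiv (F : Type*) [Field F] [Fintype F] (hF : Fintype.card F = q) :
    Nonempty (X ≃* Matrix.ProjGenLinGroup (Fin 2) F × Multiplicative (ZMod ((q - 1) / 2))) := by
  classical
  haveI := c.fact_p
  haveI := c.R_normal
  have hcomm := c.R_le_center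
  haveI : IsMulCommutative c.R :=
    ⟨⟨fun a b => Subtype.ext ((mem_center_iff.1 (hcomm b.2)) a)⟩⟩
  obtain ⟨u₀, hu₀, hu₀1⟩ : ∃ u ∈ (c.U : Subgroup X), u ≠ 1 := by
    by_contra h
    push Not at h
    have h2 := c.cardU
    rw [(Subgroup.eq_bot_iff_forall _).2 h, Subgroup.card_bot] at h2
    have := c.three_le
    omega
  -- the permutation group
  set φ := MulAction.toPermHom X (Sylow p X) with hφ
  letI : Fintype (Sylow p X) := Fintype.ofFinite _
  have happ : ∀ (g : X) (W : Sylow p X), (⟨φ g, ⟨g, rfl⟩⟩ : φ.range) • W = g • W := fun _ _ => rfl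
  have h3 : MulAction.IsMultiplyPretransitive φ.range (Sylow p X) 3 := by
    refine MulAction.IsPretransitive.mk fun x y => ?_
    obtain ⟨g, g0, g1, g2⟩ := c.exists_std (x.injective.ne (by decide : (0 : Fin 3) ≠ 1))
      (x.injective.ne (by decide : (0 : Fin 3) ≠ 2)) (x.injective.ne (by decide : (1 : Fin 3) ≠ 2)) hu₀ hu₀1
    obtain ⟨k, k0, k1, k2⟩ := c.exists_std (y.injective.ne (by decide : (0 : Fin 3) ≠ 1))
      (y.injective.ne (by decide : (0 : Fin 3) ≠ 2)) (y.injective.ne (by decide : (1 : Fin 3) ≠ 2)) hu₀ hu₀1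
    refine ⟨⟨φ (k⁻¹ * g), ⟨_, rfl⟩⟩, Function.Embedding.ext fun i => ?_⟩
    change (k⁻¹ * g) • x i = y i
    rw [mul_smul, inv_smul_eq_iff]
    fin_cases i
    · exact g0.trans k0.symm
    · exact g1.trans k1.symm
    · exact g2.trans k2.symm
  have hsharp : ∀ x : Fin 3 ↪ Sylow p X, MulAction.stabilizer φ.range x = ⊥ := by
    intro x
    rw [Subgroup.eq_bot_iff_forall]
    rintro ⟨_, g, rfl⟩ hg
    have hfix : ∀ i, g • x i = x i := fun i => congrArg (fun e : Fin 3 ↪ Sylow p X => e i) hg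
    obtain ⟨k, k0, k1, k2⟩ := c.exists_std (x.injective.ne (by decide : (0 : Fin 3) ≠ 1))
      (x.injective.ne (by decide : (0 : Fin 3) ≠ 2)) (x.injective.ne (by decide : (1 : Fin 3) ≠ 2)) hu₀ hu₀1
    have hR : k * g * k⁻¹ ∈ c.R := c.mem_R_of_fix hu₀ hu₀1
      (by rw [← k0, mul_smul, mul_smul, inv_smul_smul, hfix])
      (by rw [← k1, mul_smul, mul_smul, inv_smul_smul, hfix])
      (by rw [← k2, mul_smul, mul_smul, inv_smul_smul, hfix])
    have hgR : g ∈ c.R := by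
      have h := Subgroup.Normal.conj_mem inferInstance _ hR k⁻¹
      simpa [mul_assoc] using h
    refine Subtype.ext ?_
    change φ g = 1
    rw [← MonoidHom.mem_ker, ← c.R_eq_ker]
    exact hgR
  have hn : Nat.card (Sylow p X) = p ^ c.n + 1 := by rw [c.card_sylow_eq, ← c.hqn]
  have hodd : Odd c.n := by
    rw [← Nat.not_even_iff_odd]
    rintro ⟨k, hk⟩
    have h := c.q4
    rw [c.hqn, hk, ← two_mul, pow_mul, Nat.pow_mod] at h
    have hp2 : p ^ 2 % 4 = 1 := by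
      rcases c.hp.eq_two_or_odd with h2 | h2
      · exact absurd h2 c.p2
      · rw [Nat.pow_mod]
        have h4 : p % 4 = 1 ∨ p % 4 = 3 := by omega
        rcases h4 with h4 | h4 <;> rw [h4]
    rw [hp2, one_pow] at h
    omega
  obtain ⟨F', fF, fFin, hF', ⟨e₁⟩⟩ :=
    CfsgLib.Classification.SharplyThreeProjective.odd_case h3
      (fun g a b d h1 h2 h4 h5 h6 h7 =>
        CfsgLib.Perm.SharplyThree.sharp_of_stabilizer hsharp h1 h2 h4 h5 h6 h7) c.hp c.p2 hodd hn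
  obtain ⟨e₂⟩ := nonempty_pgl_equiv (n := Fin 2)
    (FiniteField.ringEquivOfCardEq (K := F') (K' := F) (by rw [hF, c.hqn]; omega))
  -- a complement of `R`
  let TT : Subgroup X := c.T
  have hLidx : c.L.index = (q + 1) * q := by
    have h := c.L.card_mul_index
    rw [c.card_X, c.card_fixed, one_mul, add_comm 1 q] at h
    have hpos : 0 < Nat.card c.L := Nat.card_pos
    exact Nat.eq_of_mul_eq_mul_left hpos (h.trans (by ring))
  have hcop : (Nat.card c.R).Coprime c.L.index := by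
    rw [c.card_R, hLidx]
    set m := (q - 1) / 2
    have hm : q = 2 * m + 1 := by have := c.q4; omega
    have hmodd : Odd m := by rw [Nat.odd_iff]; have := c.q4; omega
    refine Nat.Coprime.mul_right ?_ ?_
    · rw [show q + 1 = 2 + 2 * m by omega]
      exact (Nat.coprime_add_mul_right_right m 2 2).2 (Nat.coprime_two_right.2 hmodd)
    · rw [show q = 1 + 2 * m by omega]
      exact (Nat.coprime_add_mul_right_right m 1 2).2 (Nat.coprime_one_right m)
  obtain ⟨H, hH⟩ := CfsgLib.Solvable.exists_complement_of_gaschutz (K := c.R) (U := c.L)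
    inf_le_left hcop (A := TT)
    ((Subgroup.eq_bot_iff_forall _).2 fun x hx => c.R_inf_T hx.2 hx.1)
    (le_antisymm (sup_le inf_le_left c.T_le_L) fun l hl => by
      obtain ⟨a, ha, r, hr, rfl⟩ := c.decomp_L hl
      exact mul_mem (mem_sup_right ha) (mem_sup_left hr))
  have hbijH : Function.Bijective ((φ.rangeRestrict).comp H.subtype) := by
    constructor
    · rw [← MonoidHom.ker_eq_bot_iff, Subgroup.eq_bot_iff_forall]
      intro h hh
      have hR : (h : X) ∈ c.R := by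
        rw [c.R_eq_ker, MonoidHom.mem_ker]
        exact congrArg Subtype.val hh
      have hb : (h : X) ∈ c.R ⊓ H := ⟨hR, h.2⟩
      rw [hH.disjoint.eq_bot, Subgroup.mem_bot] at hb
      exact Subtype.ext hb
    · rintro ⟨_, g, rfl⟩
      obtain ⟨⟨r, h⟩, rfl⟩ := hH.2 g
      refine ⟨h, Subtype.ext ?_⟩
      change φ (h : X) = φ ((r : X) * h)
      have hr : φ (r : X) = 1 := by rw [← MonoidHom.mem_ker, ← c.R_eq_ker]; exact r.2
      rw [map_mul, hr, one_mul]
  let eH : H ≃* φ.range := MulEquiv.ofBijective _ hbijH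
  let mulHom : c.R × H →* X :=
    { toFun := fun x => (x.1 : X) * x.2
      map_one' := by simp
      map_mul' := fun x y => by
        simp only [Prod.fst_mul, Prod.snd_mul, Subgroup.coe_mul]
        exact (show Commute (y.1 : X) (x.2 : X) from
          ((mem_center_iff.1 (hcomm y.1.2)) x.2).symm).mul_mul_mul_comm _ _ }
  let eX : c.R × H ≃* X := MulEquiv.ofBijective mulHom hH
  haveI := c.cyclic_R
  let eR : c.R ≃* Multiplicative (ZMod ((q - 1) / 2)) := by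
    refine (zmodCyclicMulEquiv (G := c.R) inferInstance).symm.trans ?_
    rw [c.card_R]
  exact ⟨eX.symm.trans ((eR.prodCongr ((eH.trans e₁).trans e₂)).trans MulEquiv.prodComm)⟩

end Config

end CfsgLib.PSpLocal
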