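import Mathlib.Algebra.CharP.CharAndCard
import Cfsg.Agent.PSpLocal.Embed
import Cfsg.Agent.PSpLocal.Structure

/-!
# The normaliser of the elementary abelian subgroup of order `q ^ 3`

In a group with an element of order `p` whose centraliser is that of a central element of a Sylow
subgroup of `PSp(4, q)`, `q = 3 (mod 4)`, with at least two classes of such elements, the normaliser
of the abelian subgroup of order `q ^ 3` is either `p`-closed or has a complement
`PGL(2, q) × C_{(q-1)/2}`.
-/

set_option autoImplicit false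
set_option linter.style.haveILetI false
set_option linter.unusedSectionVars false

namespace CfsgLib.PSpLocal

open Subgroup

variable {F : Type*} [Field F]

/-- The elements with `γ = 0`. -/
def Ng : Subgroup (Se F) where
  carrier := {A | (co A).g = 0}
  one_mem' := by simp [co_one]
  mul_mem' {A B} hA hB := by
    simp only [Set.mem_ofPred_eq] at hA hB ⊢
    rw [co_mul]
    simp [Co.mul, hA, hB]
  inv_mem' {A} hA := by
    simp only [Set.mem_ofPred_eq] at hA ⊢
    have h := congrArg Co.g (congrArg co (inv_mul_cancel A))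
    rw [co_mul, co_one] at h
    simp only [Co.mul, hA, mul_zero, add_zero] at h
    have ha : (co A).a ≠ 0 := fun h0 => by
      have := co_det A
      rw [h0, hA, zero_mul, mul_zero, sub_zero] at this
      exact zero_ne_one this
    exact (mul_eq_zero.1 h).resolve_right ha

/-- The conclusion, from a normalised embedding of the centraliser. -/
theorem exists_complement [Fintype F] {G : Type*} [Group G] [Finite G] (p n : ℕ) [Fact p.Prime]
    (hp : p ≠ 2) (hq4 : p ^ n % 4 = 3) (hF : Fintype.card F = p ^ n) (h2 : (2 : F) ≠ 0)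
    (P : Sylow p G) (j : Se F →* G) (hinj : Function.Injective j)
    (hPj : (P : Subgroup G) = (P₀ F).map j)
    (hcent : ∀ w : F, w ≠ 0 → ∀ g : G, g * j (mA 0 w 0) = j (mA 0 w 0) * g → g ∈ j.range)
    (hc : ∃ (u v : G) (Pu Pv : Sylow p G), orderOf u = p ∧ orderOf v = p ∧
      u ∈ (Pu : Subgroup G) ∧ (∀ y ∈ (Pu : Subgroup G), y * u = u * y) ∧
      v ∈ (Pv : Subgroup G) ∧ (∀ y ∈ (Pv : Subgroup G), y * v = v * y) ∧ ∀ g : G, g * u * g⁻¹ ≠ v)
    (M : Subgroup G) (hM : M = (AM F).map j)
    (hnc : ∃ Q R : Sylow p ↥(normalizer (M : Set G)), Q ≠ R) :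
    ∃ J : Subgroup G, J ≤ normalizer (M : Set G) ∧ M ⊔ J = normalizer (M : Set G) ∧ M ⊓ J = ⊥ ∧
      Nonempty (↥J ≃* (Matrix.ProjGenLinGroup (Fin 2) F × Multiplicative (ZMod ((p ^ n - 1) / 2)))) := by
  classical
  have hMmem : ∀ u w b : F, j (mA u w b) ∈ M := fun u w b => hM ▸ mem_map_of_mem _ (mA_mem u w b)
  have hMsurj : ∀ m ∈ M, ∃ u w b, m = j (mA u w b) := by
    intro m hm
    rw [hM] at hm
    obtain ⟨_, ⟨u, w, b, rfl⟩, rfl⟩ := hm
    exact ⟨u, w, b, rfl⟩
  haveI hMcomm : IsMulCommutative M := ⟨⟨fun a b => by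
    obtain ⟨u, w, x, ha⟩ := hMsurj a a.2
    obtain ⟨u', w', x', hb⟩ := hMsurj b b.2
    apply Subtype.ext
    rw [coe_mul, coe_mul, ha, hb, ← map_mul, ← map_mul, mA_mul, mA_mul, add_comm u, add_comm w,
      add_comm x]⟩⟩
  set N := normalizer (M : Set G) with hN
  -- the part of `N` inside the centraliser
  have hNg : ∀ A : Se F, j A ∈ N ↔ (co A).g = 0 := by
    intro A
    constructor
    · intro h
      refine g_eq_zero_of_normalizes fun m hm => ?_
      have h1 := (mem_normalizer_iff.1 h (j m)).1 (hM ▸ mem_map_of_mem _ hm)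
      rw [← map_mul, ← map_inv, ← map_mul, hM] at h1
      exact (mem_map_iff_mem hinj).1 h1
    · intro h
      refine mem_normalizer_iff.2 fun x => ⟨fun hx => ?_, fun hx => ?_⟩
      · obtain ⟨u, w, b, rfl⟩ := hMsurj x hx
        rw [← map_mul, ← map_inv, ← map_mul, hM]
        exact mem_map_of_mem _ (conj_AM h (mA_mem u w b))
      · obtain ⟨u, w, b, he⟩ := hMsurj _ hx
        have hx' : x = j (A⁻¹ * mA u w b * A⁻¹⁻¹) := by
          rw [map_mul, map_mul, ← he, inv_inv, map_inv]; group
        rw [hx', hM]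
        exact mem_map_of_mem _ (conj_AM (inv_mem (show A ∈ Ng from h)) (mA_mem u w b))
  let jN : Ng (F := F) →* N := (j.comp Ng.subtype).codRestrict N fun A => (hNg A).2 A.2
  set Mn : Subgroup N := M.subgroupOf N with hMn
  haveI : Mn.Normal := normal_in_normalizer
  set π := QuotientGroup.mk' Mn with hπ
  let act : N ⧸ Mn →* MulAut M := QuotientGroup.lift Mn (M.normalizerMonoidHom) (by
    intro a ha
    rw [MonoidHom.mem_ker]
    refine MulEquiv.ext fun m => Subtype.ext ?_
    change (a : G) * (m : G) * (a : G)⁻¹ = m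
    rw [mul_inv_eq_iff_eq_mul]
    exact congrArg Subtype.val (hMcomm.is_comm.comm ⟨a, ha⟩ m))
  letI : CommGroup M :=
    { (inferInstance : Group M) with mul_comm := hMcomm.is_comm.comm }
  letI : MulDistribMulAction (N ⧸ Mn) M := MulDistribMulAction.compHom M act
  let ι : F → F → F → M := fun u w b => ⟨j (mA u w b), hMmem u w b⟩
  have hι : ∀ {u w b u' w' b' : F}, ι u w b = ι u' w' b' → u = u' ∧ w = w' ∧ b = b' :=
    fun h => mA_inj (hinj (congrArg Subtype.val h))
  have hιmul : ∀ u w b u' w' b' : F, ι u w b * ι u' w' b' = ι (u + u') (w + w') (b + b') :=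
    fun u w b u' w' b' => Subtype.ext (by rw [coe_mul, ← map_mul, mA_mul])
  have hι1 : ι 0 0 0 = 1 := Subtype.ext (by simp only [ι, mA_zero, map_one]; rfl)
  have hιs : ∀ m : M, ∃ u w b, m = ι u w b := fun m => by
    obtain ⟨u, w, b, h⟩ := hMsurj m m.2
    exact ⟨u, w, b, Subtype.ext h⟩
  have hιinv : ∀ u w b, (ι u w b)⁻¹ = ι (-u) (-w) (-b) := fun u w b =>
    inv_eq_of_mul_eq_one_right (by rw [hιmul]; simp [hι1])
  have hsmul : ∀ (g : N) (m : M), ((π g • m : M) : G) = (g : G) * m * (g : G)⁻¹ := fun _ _ => rfl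
  -- the two one-parameter subgroups
  have hUg : ∀ y : F, mU y ∈ Ng := fun y => show (co (mU y)).g = 0 by rw [co_mU]
  have hTg : ∀ a : Fˣ, mT a ∈ Ng := fun a => show (co (mT a)).g = 0 by rw [co_mT]
  let nU : Multiplicative F →* N := MonoidHom.mk' (fun y => jN ⟨mU y.toAdd, hUg _⟩) fun y y' => by
    rw [← map_mul]
    exact congrArg jN (Subtype.ext (mU_mul _ _).symm)
  let nT : Fˣ →* N := MonoidHom.mk' (fun a => jN ⟨mT a, hTg _⟩) fun a a' => by
    rw [← map_mul]
    exact congrArg jN (Subtype.ext (mT_mul _ _).symm)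
  let πU := π.comp nU
  let πT := π.comp nT
  have hπ1 : ∀ A : Ng (F := F), π (jN A) = 1 → A.1 ∈ AM F := fun A h => by
    have h1 : (jN A : G) ∈ M := mem_subgroupOf.1 ((QuotientGroup.eq_one_iff (jN A)).1 h)
    rw [hM] at h1
    exact (mem_map_iff_mem hinj).1 h1
  have hUinj : Function.Injective πU := by
    rw [injective_iff_map_eq_one]
    intro y hy
    have h := (mem_AM.1 (hπ1 ⟨mU y.toAdd, hUg _⟩ hy)).1
    rw [co_mU] at h
    exact h
  have hTinj : Function.Injective πT := by
    rw [injective_iff_map_eq_one]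
    intro a ha
    have h := (mem_AM.1 (hπ1 ⟨mT a, hTg _⟩ ha)).2.1
    rw [co_mT] at h
    exact Units.ext h
  have hactU : ∀ y u w b, πU (Multiplicative.ofAdd y) • ι u w b =
      ι (u - b * y) (w - 2 * u * y + b * y ^ 2) b := fun y u w b => Subtype.ext (by
    change j (mU y) * j (mA u w b) * (j (mU y))⁻¹ = j _
    rw [← map_inv, ← map_mul, ← map_mul, mU_conj, mul_inv_cancel_right])
  have hactT : ∀ a u w b, πT a • ι u w b = ι ((a : F) * u) w ((a : F) ^ 2 * b) := fun a u w b =>
    Subtype.ext (by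
      change j (mT a) * j (mA u w b) * (j (mT a))⁻¹ = j _
      rw [← map_inv, ← map_mul, ← map_mul, mT_conj, mul_inv_cancel_right])
  -- the Sylow subgroup
  have hPN : (P : Subgroup G) ≤ N := by
    rw [hPj]
    rintro _ ⟨A, hA, rfl⟩
    exact (hNg A).2 (mem_P₀.1 hA).2.1
  let PN : Sylow p N := P.subtype hPN
  let US : Sylow p (N ⧸ Mn) := PN.mapSurjective (f := π) (QuotientGroup.mk'_surjective Mn)
  have hM1 : ∀ m ∈ AM F, ∀ hm : m ∈ Ng, π (jN ⟨m, hm⟩) = 1 := fun m hmA hm =>
    (QuotientGroup.eq_one_iff _).2 (mem_subgroupOf.2 (hM ▸ mem_map_of_mem _ hmA))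
  have hM1' : ∀ m ∈ AM F, ∀ (hm : m ∈ Ng) (B : N), π (jN ⟨m, hm⟩ * B) = π B := fun m hmA hm B =>
    (map_mul π _ B).trans (by rw [hM1 m hmA hm, one_mul])
  have hUS : ∀ g : N ⧸ Mn, g ∈ (US : Subgroup (N ⧸ Mn)) ↔ ∃ y, g = πU (Multiplicative.ofAdd y) := by
    intro g
    simp only [US, Sylow.coe_mapSurjective, Subgroup.mem_map]
    constructor
    · rintro ⟨x, hx, rfl⟩
      have hx' : (x : G) ∈ (P : Subgroup G) := hx
      rw [hPj] at hx'
      obtain ⟨A, hA, he⟩ := hx'
      obtain ⟨m, y, hm, rfl⟩ := P₀_factor hA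
      refine ⟨y, ?_⟩
      have hxe : x = jN ⟨m, (mem_AM.1 hm).2.2.1⟩ * jN ⟨mU y, hUg y⟩ := by
        rw [← map_mul]; exact Subtype.ext he.symm
      rw [hxe]
      exact hM1' m hm _ _
    · rintro ⟨y, rfl⟩
      refine ⟨nU (Multiplicative.ofAdd y), ?_, rfl⟩
      change (nU (Multiplicative.ofAdd y) : G) ∈ (P : Subgroup G)
      rw [hPj]
      exact mem_map_of_mem _ (mU_mem y)
  set q := p ^ n with hq
  have hcardF : Nat.card F = q := by rw [Nat.card_eq_fintype_card, hF]
  have hUSr : (US : Subgroup (N ⧸ Mn)) = πU.range := by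
    ext g
    rw [hUS]
    exact ⟨fun ⟨y, h⟩ => ⟨_, h.symm⟩, fun ⟨y, h⟩ => ⟨y.toAdd, h.symm⟩⟩
  let zH : Multiplicative F →* M := MonoidHom.mk' (fun w => ι 0 w.toAdd 0) fun w w' => by
    rw [hιmul]; simp
  let w1H : Multiplicative F →* M := MonoidHom.mk' (fun u => ι u.toAdd 0 0) fun u u' => by
    rw [hιmul]; simp
  let w2H : Multiplicative F →* M := MonoidHom.mk' (fun b => ι 0 0 b.toAdd) fun b b' => by
    rw [hιmul]; simp
  have hrange : ∀ f : Multiplicative F →* M, Function.Injective f → Nat.card f.range = q := by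
    intro f hf
    rw [← Nat.card_congr (MonoidHom.ofInjective hf).toEquiv, Nat.card_congr Multiplicative.toAdd,
      hcardF]
  have hzfix : ∀ w : F, ∀ g ∈ (US : Subgroup (N ⧸ Mn)) ⊔ πT.range, g • ι 0 w 0 = ι 0 w 0 := by
    intro w
    have hle : (US : Subgroup (N ⧸ Mn)) ⊔ πT.range ≤ MulAction.stabilizer (N ⧸ Mn) (ι 0 w 0) := by
      refine sup_le ?_ ?_
      · intro g hg
        obtain ⟨y, rfl⟩ := (hUS g).1 hg
        rw [MulAction.mem_stabilizer_iff, hactU]
        simp
      · rintro _ ⟨a, rfl⟩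
        rw [MulAction.mem_stabilizer_iff, hactT]
        simp
    exact fun g hg => hle hg
  let cfg : Config (N ⧸ Mn) M p q :=
    { hp := Fact.out
      p2 := hp
      n := n
      hqn := rfl
      q4 := hq4
      U := US
      cardU := by
        change Nat.card (US : Subgroup (N ⧸ Mn)) = q
        rw [hUSr, ← Nat.card_congr (MonoidHom.ofInjective hUinj).toEquiv,
          Nat.card_congr Multiplicative.toAdd, hcardF]
      cardM := by
        rw [hM, ← Nat.card_congr (Subgroup.equivMapOfInjective _ j hinj).toEquiv, card_AM, hF]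
      Z := zH.range
      cardZ := hrange zH fun w w' h => (hι h).2.1
      fixU := by
        intro g hg hg1 m
        obtain ⟨y, rfl⟩ := (hUS g).1 hg
        have hy : y ≠ 0 := fun h => hg1 (by rw [h, ofAdd_zero, map_one])
        obtain ⟨u, w, b, rfl⟩ := hιs m
        constructor
        · intro h
          rw [hactU] at h
          obtain ⟨e1, e2, -⟩ := hι h
          have hb : b = 0 := (mul_eq_zero.1 (show b * y = 0 by linear_combination -e1)).resolve_right hy
          subst hb
          have hu : u = 0 := by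
            have := (mul_eq_zero.1 (show 2 * u * y = 0 by linear_combination -e2)).resolve_right hy
            exact (mul_eq_zero.1 this).resolve_left h2
          subst hu
          exact ⟨Multiplicative.ofAdd w, rfl⟩
        · rintro ⟨w', hw'⟩
          obtain ⟨rfl, -, rfl⟩ := hι hw'
          rw [hactU]
          simp
      T := πT.range
      cardT := by
        rw [← Nat.card_congr (MonoidHom.ofInjective hTinj).toEquiv, Nat.card_units, hcardF]
      cycT := isCyclic_of_surjective πT.rangeRestrict πT.rangeRestrict_surjective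
      t := πT (-1)
      tT := ⟨-1, rfl⟩
      ht := by
        rw [orderOf_injective πT hTinj]
        refine orderOf_eq_prime (by simp) ?_
        intro h
        have h' := congrArg Units.val h
        simp only [Units.val_neg, Units.val_one] at h'
        exact h2 (by linear_combination -h')
      normT := by
        rintro _ ⟨a, rfl⟩
        have hconj : ∀ a : Fˣ, ∀ y, πT a * πU (Multiplicative.ofAdd y) * (πT a)⁻¹ =
            πU (Multiplicative.ofAdd (((a⁻¹ : Fˣ) : F) * y)) := by
          intro a y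
          rw [mul_inv_eq_iff_eq_mul]
          change π (nT a) * π (nU _) = π (nU _) * π (nT a)
          rw [← map_mul π, ← map_mul π]
          exact congrArg π (Subtype.ext (show j (mT a) * j (mU y) = j (mU _) * j (mT a) by
            rw [← map_mul, ← map_mul, mT_mU]; rfl))
        refine mem_normalizer_iff.2 fun g => ⟨fun hg => ?_, fun hg => ?_⟩
        · obtain ⟨y, rfl⟩ := (hUS g).1 hg
          exact (hUS _).2 ⟨_, hconj a y⟩
        · obtain ⟨y, hy⟩ := (hUS _).1 hg
          refine (hUS g).2 ⟨((a⁻¹⁻¹ : Fˣ) : F) * y, ?_⟩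
          rw [← hconj a⁻¹ y, ← hy, map_inv]
          group
      fpfT := by
        rintro _ ⟨a, rfl⟩ g hg h
        obtain ⟨y, rfl⟩ := (hUS g).1 hg
        by_cases hy : y = 0
        · exact Or.inr (by rw [hy, ofAdd_zero, map_one])
        left
        have h' : πU (Multiplicative.ofAdd (((a⁻¹ : Fˣ) : F) * y)) * πT a =
            πU (Multiplicative.ofAdd y) * πT a := by
          rw [← h]
          change π (nU _) * π (nT a) = π (nT a) * π (nU _)
          rw [← map_mul π, ← map_mul π]
          exact congrArg π (Subtype.ext (show j (mU _) * j (mT a) = j (mT a) * j (mU y) by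
            rw [← map_mul, ← map_mul, mT_mU]; rfl))
        have h1 : ((a⁻¹ : Fˣ) : F) * y = y := hUinj (mul_right_cancel h')
        have h3 : ((a⁻¹ : Fˣ) : F) = 1 := mul_right_cancel₀ hy (by rw [h1, one_mul])
        rw [inv_eq_one.1 (Units.val_eq_one.1 h3), map_one]
      stabZ := by
        rintro _ ⟨w, rfl⟩ hz g
        have hw : w.toAdd ≠ 0 := fun h => hz (by
          change ι 0 w.toAdd 0 = 1
          rw [h, hι1])
        refine ⟨fun hg => ?_, fun hg => hzfix _ g hg⟩
        obtain ⟨x, rfl⟩ := QuotientGroup.mk'_surjective Mn g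
        have hcomm : (x : G) * j (mA 0 w.toAdd 0) = j (mA 0 w.toAdd 0) * x := by
          rw [← mul_inv_eq_iff_eq_mul]
          exact congrArg Subtype.val hg
        obtain ⟨A, hA⟩ := hcent _ hw _ hcomm
        obtain ⟨m, y, a, hm, rfl⟩ := exists_factor ((hNg A).1 (hA ▸ x.2))
        have hxe : x = jN ⟨m, (mem_AM.1 hm).2.2.1⟩ * jN ⟨mU y, hUg y⟩ * jN ⟨mT a, hTg a⟩ := by
          rw [← map_mul, ← map_mul]; exact Subtype.ext hA.symm
        have hxu : π x = πU (Multiplicative.ofAdd y) * πT a := by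
          rw [hxe, mul_assoc]
          exact (hM1' m hm _ _).trans (map_mul π _ _)
        change π x ∈ _
        rw [hxu]
        exact mul_mem (mem_sup_left ((hUS _).2 ⟨y, rfl⟩)) (mem_sup_right ⟨a, rfl⟩)
      cardFixT := by
        have hb : Function.Bijective (fun v : F × F =>
            (⟨ι 0 v.1 v.2, by rw [hactT]; simp⟩ : {m : M // πT (-1) • m = m})) := by
          constructor
          · intro v v' h
            exact Prod.ext (hι (congrArg Subtype.val h)).2.1 (hι (congrArg Subtype.val h)).2.2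
          · rintro ⟨m, hm⟩
            obtain ⟨u, w, b, rfl⟩ := hιs m
            rw [hactT] at hm
            have hu : u = 0 := by
              have := (hι hm).1
              simp at this
              exact (mul_eq_zero.1 (show (2 : F) * u = 0 by linear_combination -this)).resolve_left h2
            subst hu
            exact ⟨(w, b), rfl⟩
        rw [← Nat.card_congr (Equiv.ofBijective _ hb), Nat.card_prod, hcardF, pow_two]
      W₁ := w1H.range
      cardW₁ := hrange w1H fun u u' h => (hι h).1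
      negW₁ := by
        rintro _ ⟨u, rfl⟩
        change πT (-1) • ι u.toAdd 0 0 = (ι u.toAdd 0 0)⁻¹
        rw [hactT, hιinv]
        simp
      freeW₁ := by
        rintro _ ⟨a, rfl⟩ ha _ ⟨u, rfl⟩ h
        change πT a • ι u.toAdd 0 0 = ι u.toAdd 0 0 at h
        rw [hactT] at h
        change ι u.toAdd 0 0 = 1
        by_cases hu : u.toAdd = 0
        · rw [hu, hι1]
        · have ha' : (a : F) = 1 := mul_right_cancel₀ hu (by rw [(hι h).1, one_mul])
          exact absurd (by rw [Units.val_eq_one.1 ha', map_one]) ha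
      shearW₁ := by
        rintro g hg _ ⟨u, rfl⟩
        obtain ⟨y, rfl⟩ := (hUS g).1 hg
        refine ⟨Multiplicative.ofAdd (-2 * u.toAdd * y), ?_⟩
        change ι 0 (-2 * u.toAdd * y) 0 = πU _ • ι u.toAdd 0 0 / ι u.toAdd 0 0
        rw [eq_div_iff_mul_eq', hactU, hιmul]
        congr 1 <;> ring
      W₂ := w2H.range
      cardW₂ := hrange w2H fun b b' h => (hι h).2.2
      fixW₂ := by
        rintro _ ⟨b, rfl⟩
        change πT (-1) • ι 0 0 b.toAdd = ι 0 0 b.toAdd
        rw [hactT]
        simp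
      invW₂ := by
        rintro _ ⟨a, rfl⟩ _ ⟨b, rfl⟩
        refine ⟨Multiplicative.ofAdd ((a : F) ^ 2 * b.toAdd), ?_⟩
        change ι 0 0 _ = πT a • ι 0 0 b.toAdd
        rw [hactT]
        simp
      freeW₂ := by
        rintro _ ⟨a, rfl⟩ ha1 hat _ ⟨b, rfl⟩ h
        change πT a • ι 0 0 b.toAdd = ι 0 0 b.toAdd at h
        rw [hactT] at h
        change ι 0 0 b.toAdd = 1
        by_cases hb : b.toAdd = 0
        · rw [hb, hι1]
        · have ha' : (a : F) ^ 2 = 1 := mul_right_cancel₀ hb (by rw [(hι h).2.2, one_mul])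
          rcases sq_eq_one_iff.1 ha' with h' | h'
          · exact absurd (by rw [Units.val_eq_one.1 h', map_one]) ha1
          · exact absurd (congrArg πT (Units.ext (by simpa using h') : a = -1)) hat
      disjW₂ := by
        rintro _ ⟨b, rfl⟩ ⟨w, hw⟩
        have := (hι hw).2.2
        change ι 0 0 b.toAdd = 1
        rw [← this, hι1]
      fus := by
        obtain ⟨u, v, Pu, Pv, hu, hv, huP, huc, hvP, hvc, hne⟩ := hc
        have key : ∀ (u : G) (Pu : Sylow p G), orderOf u = p → u ∈ (Pu : Subgroup G) →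
            (∀ y ∈ (Pu : Subgroup G), y * u = u * y) →
            ∃ (g : G) (w : F), w ≠ 0 ∧ g * u * g⁻¹ = j (mA 0 w 0) := by
          intro u Pu hu huP huc
          obtain ⟨g, hg⟩ := MulAction.exists_smul_eq G Pu P
          have hmem : ∀ {y : G}, y ∈ (P : Subgroup G) ↔ g⁻¹ * y * g ∈ (Pu : Subgroup G) := by
            intro y
            rw [← hg, Sylow.smul_def, Sylow.pointwise_smul_def, mem_pointwise_smul_iff_inv_smul_mem,
              MulAut.smul_def, MulAut.conj_inv_apply]
          have h1 : g * u * g⁻¹ ∈ (P : Subgroup G) := hmem.2 (by simpa [mul_assoc] using huP)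
          have h1' := h1
          rw [hPj] at h1'
          obtain ⟨A, hA, he⟩ := h1'
          obtain ⟨w, rfl⟩ := eq_central_of_comm h2 (A := A) fun m hm => hinj (by
            rw [map_mul, map_mul, he]
            have hjm : j m ∈ (P : Subgroup G) := hPj ▸ mem_map_of_mem _ hm
            have h2 := huc _ (hmem.1 hjm)
            calc g * u * g⁻¹ * j m = g * (u * (g⁻¹ * j m * g)) * g⁻¹ := by group
              _ = j m * (g * u * g⁻¹) := by rw [← h2]; group)
          refine ⟨g, w, fun h => ?_, he.symm⟩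
          rw [h, mA_zero, map_one] at he
          rw [conj_eq_one_iff.1 he.symm, orderOf_one] at hu
          exact (Fact.out : p.Prime).one_lt.ne hu
        obtain ⟨g, w, hw, he⟩ := key u Pu hu huP huc
        obtain ⟨g', w', hw', he'⟩ := key v Pv hv hvP hvc
        refine ⟨ι 0 w 0, ⟨Multiplicative.ofAdd w, rfl⟩, ι 0 w' 0, ⟨Multiplicative.ofAdd w', rfl⟩,
          fun h => hw (hι (h.trans hι1.symm)).2.1, fun h => hw' (hι (h.trans hι1.symm)).2.1,
          fun x h => ?_⟩
        obtain ⟨x, rfl⟩ := QuotientGroup.mk'_surjective Mn x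
        have h3 : (x : G) * j (mA 0 w 0) * (x : G)⁻¹ = j (mA 0 w' 0) := congrArg Subtype.val h
        refine hne (g'⁻¹ * x * g) ?_
        calc g'⁻¹ * (x : G) * g * u * (g'⁻¹ * x * g)⁻¹
            = g'⁻¹ * ((x : G) * (g * u * g⁻¹) * (x : G)⁻¹) * g' := by group
          _ = v := by rw [he, h3, ← he']; group
      notNormal := by
        intro hnorm
        haveI := Sylow.unique_of_normal US hnorm
        have hle : ∀ Q : Sylow p N, Q = PN := by
          intro Q
          have h1 : Q.mapSurjective (f := π) (QuotientGroup.mk'_surjective Mn) = US :=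
            Subsingleton.elim _ _
          have h2 : (Q : Subgroup N) ≤ (PN : Subgroup N) := by
            intro x hx
            have h3 : π x ∈ (US : Subgroup (N ⧸ Mn)) := by
              rw [← h1, Sylow.coe_mapSurjective]
              exact mem_map_of_mem _ hx
            simp only [US, Sylow.coe_mapSurjective] at h3
            obtain ⟨y, hy, hyx⟩ := h3
            have h4 : y⁻¹ * x ∈ Mn := QuotientGroup.eq.1 hyx
            have h5 : y⁻¹ * x ∈ (PN : Subgroup N) := by
              change ((y⁻¹ * x : N) : G) ∈ (P : Subgroup G)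
              have h6 : ((y⁻¹ * x : N) : G) ∈ M := mem_subgroupOf.1 h4
              rw [hM] at h6
              rw [hPj]
              exact Subgroup.map_mono AM_le_P₀ h6
            simpa using mul_mem hy h5
          exact (Sylow.ext (Q.is_maximal' PN.2 h2)).symm
        obtain ⟨Q, R, hne⟩ := hnc
        exact hne ((hle Q).trans (hle R).symm) }
  obtain ⟨eX⟩ := cfg.nonempty_equiv F hF
  -- the complement
  haveI : IsMulCommutative Mn := ⟨⟨fun a b => Subtype.ext (Subtype.ext (by
    simp only [Subgroup.coe_mul]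
    exact congrArg Subtype.val
      (hMcomm.is_comm.comm ⟨_, mem_subgroupOf.1 a.2⟩ ⟨_, mem_subgroupOf.1 b.2⟩)))⟩⟩
  have hMnP : Mn ≤ (PN : Subgroup N) := fun x hx => by
    change (x : G) ∈ (P : Subgroup G)
    have h6 : (x : G) ∈ M := mem_subgroupOf.1 hx
    rw [hM] at h6
    rw [hPj]
    exact Subgroup.map_mono AM_le_P₀ h6
  have hcop : (Nat.card Mn).Coprime (PN : Subgroup N).index := by
    refine Nat.Coprime.coprime_dvd_left (Subgroup.card_dvd_of_le hMnP) ?_
    obtain ⟨k, hk⟩ := IsPGroup.iff_card.1 PN.2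
    rw [hk]
    exact ((Fact.out : p.Prime).coprime_iff_not_dvd.2 PN.not_dvd_index).pow_left k
  obtain ⟨H, hH⟩ := CfsgLib.Solvable.exists_complement_of_gaschutz (K := Mn) (U := (PN : Subgroup N))
    hMnP hcop (A := nU.range)
    ((Subgroup.eq_bot_iff_forall _).2 fun x ⟨⟨y, hy⟩, hx⟩ => by
      have : πU y = 1 := (QuotientGroup.eq_one_iff _).2 (hy ▸ hx)
      rw [← hy, (injective_iff_map_eq_one πU).1 hUinj y this, map_one])
    (le_antisymm (sup_le hMnP (by
      rintro _ ⟨y, rfl⟩
      change (nU y : G) ∈ (P : Subgroup G)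
      rw [hPj]
      exact mem_map_of_mem _ (mU_mem _))) fun x hx => by
      have hx' : (x : G) ∈ (P : Subgroup G) := hx
      rw [hPj] at hx'
      obtain ⟨A, hA, he⟩ := hx'
      obtain ⟨m, y, hm, rfl⟩ := P₀_factor hA
      have hxe : x = jN ⟨m, (mem_AM.1 hm).2.2.1⟩ * nU (Multiplicative.ofAdd y) := by
        change x = jN _ * jN _
        rw [← map_mul]; exact Subtype.ext he.symm
      rw [hxe]
      exact mul_mem (mem_sup_left (mem_subgroupOf.2 (hM ▸ mem_map_of_mem _ hm)))
        (mem_sup_right ⟨_, rfl⟩))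
  refine ⟨H.map N.subtype, map_subtype_le _, ?_, ?_, ?_⟩
  · refine le_antisymm (sup_le le_normalizer (map_subtype_le _)) fun g hg => ?_
    obtain ⟨⟨m, h⟩, he⟩ := hH.2 ⟨g, hg⟩
    have he' : ((m : N) : G) * ((h : N) : G) = g := congrArg Subtype.val he
    rw [← he']
    exact mul_mem (mem_sup_left (mem_subgroupOf.1 m.2)) (mem_sup_right (mem_map_of_mem _ h.2))
  · rw [Subgroup.eq_bot_iff_forall]
    rintro g ⟨hgM, x, hx, rfl⟩
    have h : x ∈ Mn ⊓ H := ⟨mem_subgroupOf.2 hgM, hx⟩
    rw [hH.disjoint.eq_bot, mem_bot] at h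
    rw [h, map_one]
  · have hb : Function.Bijective (π.comp H.subtype) := by
      constructor
      · rw [← MonoidHom.ker_eq_bot_iff, Subgroup.eq_bot_iff_forall]
        intro h hh
        have h' : (h : N) ∈ Mn ⊓ H := ⟨(QuotientGroup.eq_one_iff _).1 hh, h.2⟩
        rw [hH.disjoint.eq_bot, mem_bot] at h'
        exact Subtype.ext h'
      · intro x
        obtain ⟨x, rfl⟩ := QuotientGroup.mk'_surjective Mn x
        obtain ⟨⟨m, h⟩, rfl⟩ := hH.2 x
        refine ⟨h, ?_⟩
        change π (h : N) = π ((m : N) * h)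
        rw [map_mul, show π (m : N) = 1 from (QuotientGroup.eq_one_iff _).2 m.2, one_mul]
    exact ⟨(Subgroup.equivMapOfInjective H N.subtype N.subtype_injective).symm.trans
      ((MulEquiv.ofBijective _ hb).trans eX)⟩

/-- The statement. -/
theorem main {G : Type*} [Group G] [Finite G] [Fintype F] (p n : ℕ) [Fact p.Prime] (hp : p ≠ 2)
    (hn : 1 ≤ n) (hq4 : p ^ n % 4 = 3) (hF : Fintype.card F = p ^ n)
    (x : Cfsg.PSp 2 F) (hx : orderOf x = p) (Px : Sylow p (Cfsg.PSp 2 F))
    (hxP : x ∈ (Px : Subgroup (Cfsg.PSp 2 F))) (hxc : ∀ y ∈ (Px : Subgroup (Cfsg.PSp 2 F)), y * x = x * y)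
    (α : G) (hα : orderOf α = p)
    (e : ↥(centralizer ({α} : Set G)) ≃* ↥(centralizer ({x} : Set (Cfsg.PSp 2 F))))
    (hb : ∀ z ∈ centralizer ({α} : Set G), z ≠ 1 → (∀ c ∈ centralizer ({α} : Set G), c * z = z * c) →
      centralizer ({z} : Set G) = centralizer ({α} : Set G))
    (hc : ∃ (u v : G) (Pu Pv : Sylow p G), orderOf u = p ∧ orderOf v = p ∧
      u ∈ (Pu : Subgroup G) ∧ (∀ y ∈ (Pu : Subgroup G), y * u = u * y) ∧
      v ∈ (Pv : Subgroup G) ∧ (∀ y ∈ (Pv : Subgroup G), y * v = v * y) ∧ ∀ g : G, g * u * g⁻¹ ≠ v)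
    (P : Sylow p G) (hP : (P : Subgroup G) ≤ centralizer ({α} : Set G))
    (M : Subgroup G) (hMP : M ≤ P) (hMc : IsMulCommutative ↥M) (hMcard : Nat.card ↥M = p ^ (3 * n))
    (hnc : ∃ Q R : Sylow p ↥(normalizer (M : Set G)), Q ≠ R) :
    ∃ J : Subgroup G, J ≤ normalizer (M : Set G) ∧ M ⊔ J = normalizer (M : Set G) ∧ M ⊓ J = ⊥ ∧
      Nonempty (↥J ≃* (Matrix.ProjGenLinGroup (Fin 2) F × Multiplicative (ZMod ((p ^ n - 1) / 2)))) := by
  haveI : CharP F p := charP_of_card_eq_prime_pow hF
  have h2 : (2 : F) ≠ 0 := by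
    intro h0
    have := (CharP.cast_eq_zero_iff F p 2).1 (by exact_mod_cast h0)
    exact hp ((Nat.prime_dvd_prime_iff_eq (Fact.out : p.Prime) Nat.prime_two).1 this)
  obtain ⟨j, hinj, hrange, hPj, k, -, -⟩ := exists_embedding hn hF hp x hx Px hxP hxc α hα e P hP
  have hmap : (M.comap j).map j = M :=
    map_comap_eq_self (le_trans hMP (le_trans hP hrange.ge))
  have hM : M = (AM F).map j := by
    rw [← eq_AM h2 (M.comap j) ?_ ?_ ?_, hmap]
    · intro A hA
      have h : j A ∈ (P₀ F).map j := hPj ▸ hMP (mem_comap.1 hA)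
      exact (mem_map_iff_mem hinj).1 h
    · intro a ha b hb'
      apply hinj
      rw [map_mul, map_mul]
      exact congrArg Subtype.val (hMc.is_comm.comm ⟨j a, mem_comap.1 ha⟩ ⟨j b, mem_comap.1 hb'⟩)
    · rw [Nat.card_congr (Subgroup.equivMapOfInjective (M.comap j) j hinj).toEquiv, hmap, hMcard, hF,
        ← pow_mul, mul_comm n]
  refine exists_complement p n hp hq4 hF h2 P j hinj hPj ?_ hc M hM hnc
  intro w hw g hg
  have hmem : j (mA 0 w 0) ∈ centralizer ({α} : Set G) := hrange ▸ ⟨_, rfl⟩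
  have hne : j (mA 0 w 0) ≠ 1 := fun h => hw
    (mA_inj ((hinj (h.trans j.map_one.symm)).trans mA_zero.symm)).2.1
  have hcen : ∀ c ∈ centralizer ({α} : Set G), c * j (mA 0 w 0) = j (mA 0 w 0) * c := by
    intro c hc'
    rw [← hrange] at hc'
    obtain ⟨A, rfl⟩ := hc'
    rw [← map_mul, ← map_mul, mA_central]
  rw [hrange, ← hb _ hmem hne hcen]
  exact mem_centralizer_singleton_iff.2 hg

end CfsgLib.PSpLocal
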