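import Mathlib.GroupTheory.Sylow
import Cfsg.Agent.AutPSp.SylowCenter

/-!
# The stabiliser of a vector in `Sp(4, F)` in coordinates

An element fixing the first basis vector `e` is given by `(x, y, c; α, β, γ, δ)` with
`αδ - βγ = 1`: it sends `f` to `f + x g + y h + c e` and acts on the hyperbolic pair `(g, h)` modulo
`e` by the matrix `(α β; γ δ)`.
-/

set_option autoImplicit false
set_option linter.unusedSectionVars false
set_option linter.unusedSimpArgs false
set_option linter.unnecessarySeqFocus false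
set_option linter.style.haveILetI false

namespace CfsgLib.PSpLocal

open Matrix CfsgLib.Forms CfsgLib.Forms4

variable {F : Type*} [Field F]

local notation "V" => Fin 2 ⊕ Fin 2 → F
local notation "SP" => Matrix.symplecticGroup (Fin 2) F

/-- The first basis vector. -/
def e₀ : Fin 2 ⊕ Fin 2 → F := Pi.single (Sum.inl 0) 1

theorem e₀_ne : (e₀ : V) ≠ 0 := by
  intro h
  simpa [e₀] using congrFun h (Sum.inl 0)

variable (F) in
/-- The stabiliser of the first basis vector. -/
def Se : Subgroup (Matrix.symplecticGroup (Fin 2) F) where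
  carrier := {A | A.1 *ᵥ e₀ = e₀}
  one_mem' := by simp
  mul_mem' {A B} hA hB := by
    simp only [Set.mem_ofPred_eq] at hA hB ⊢
    rw [CfsgLib.AutPSp.coe_mul_mulVec, hB, hA]
  inv_mem' {A} hA := by
    simp only [Set.mem_ofPred_eq] at hA ⊢
    conv_lhs => rw [← hA]
    rw [CfsgLib.AutPSp.inv_mulVec]

theorem mem_Se {A : SP} : A ∈ Se F ↔ A.1 *ᵥ e₀ = e₀ := Iff.rfl

/-- Coordinates. -/
@[ext] structure Co (F : Type*) where
  x : F
  y : F
  c : F
  a : F
  b : F
  g : F
  d : F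

/-- The product in coordinates. -/
def Co.mul (u v : Co F) : Co F where
  x := u.x + u.a * v.x + u.b * v.y
  y := u.y + u.g * v.x + u.d * v.y
  c := u.c + v.c + v.x * (u.x * u.g - u.y * u.a) + v.y * (u.x * u.d - u.y * u.b)
  a := u.a * v.a + u.b * v.g
  b := u.a * v.b + u.b * v.d
  g := u.g * v.a + u.d * v.g
  d := u.g * v.b + u.d * v.d

/-- The coordinates of an element. -/
def co (A : Se F) : Co F where
  x := A.1.1 (Sum.inl 1) (Sum.inr 0)
  y := A.1.1 (Sum.inr 1) (Sum.inr 0)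
  c := A.1.1 (Sum.inl 0) (Sum.inr 0)
  a := A.1.1 (Sum.inl 1) (Sum.inl 1)
  b := A.1.1 (Sum.inl 1) (Sum.inr 1)
  g := A.1.1 (Sum.inr 1) (Sum.inl 1)
  d := A.1.1 (Sum.inr 1) (Sum.inr 1)

theorem form_four (u v : V) : Cfsg.sympForm 2 F u v =
    u (Sum.inr 0) * v (Sum.inl 0) - u (Sum.inl 0) * v (Sum.inr 0) +
    (u (Sum.inr 1) * v (Sum.inl 1) - u (Sum.inl 1) * v (Sum.inr 1)) := by
  rw [sympForm_eq_sum, Fin.sum_univ_two]

theorem form_cols (A : SP) (i j : Fin 2 ⊕ Fin 2) :
    Cfsg.sympForm 2 F (fun k => A.1 k i) (fun k => A.1 k j) =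
      Cfsg.sympForm 2 F (Pi.single i 1) (Pi.single j 1) := by
  have h := sympForm_map A (Pi.single i 1) (Pi.single j 1)
  rwa [Matrix.mulVec_single_one, Matrix.mulVec_single_one] at h

theorem col_e (A : Se F) (k : Fin 2 ⊕ Fin 2) : A.1.1 k (Sum.inl 0) = (e₀ : V) k := by
  have h := congrFun A.2 k
  rwa [show A.1.1 *ᵥ e₀ = _ from Matrix.mulVec_single_one A.1.1 (Sum.inl 0)] at h

theorem row_f (A : Se F) (j : Fin 2 ⊕ Fin 2) :
    A.1.1 (Sum.inr 0) j = if j = Sum.inr 0 then 1 else 0 := by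
  have h := form_cols A.1 j (Sum.inl 0)
  rw [form_four, form_four] at h
  simp only [col_e, e₀] at h
  rcases j with j | j <;> fin_cases j <;> simp [Pi.single_apply] at h ⊢ <;> simpa using h

theorem entry_r (A : Se F) : A.1.1 (Sum.inl 0) (Sum.inl 1) = (co A).x * (co A).g - (co A).y * (co A).a := by
  have h := form_cols A.1 (Sum.inr 0) (Sum.inl 1)
  rw [form_four, form_four] at h
  simp [row_f, Pi.single_apply] at h
  simp only [co]
  linear_combination h

theorem entry_s (A : Se F) : A.1.1 (Sum.inl 0) (Sum.inr 1) = (co A).x * (co A).d - (co A).y * (co A).b := by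
  have h := form_cols A.1 (Sum.inr 0) (Sum.inr 1)
  rw [form_four, form_four] at h
  simp [row_f, Pi.single_apply] at h
  simp only [co]
  linear_combination h

theorem co_det (A : Se F) : (co A).a * (co A).d - (co A).b * (co A).g = 1 := by
  have h := form_cols A.1 (Sum.inr 1) (Sum.inl 1)
  rw [form_four, form_four] at h
  simp [row_f, Pi.single_apply] at h
  simp only [co]
  linear_combination h

theorem co_injective : Function.Injective (co (F := F)) := by
  intro A B h
  refine Subtype.ext (Subtype.ext (Matrix.ext fun i j => ?_))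
  have hr := entry_r A
  have hs := entry_s A
  rw [h, ← entry_r B] at hr
  rw [h, ← entry_s B] at hs
  have hx := congrArg Co.x h
  have hy := congrArg Co.y h
  have hc := congrArg Co.c h
  have ha := congrArg Co.a h
  have hb := congrArg Co.b h
  have hg := congrArg Co.g h
  have hd := congrArg Co.d h
  rcases i with i | i <;> rcases j with j | j <;> fin_cases i <;> fin_cases j <;>
    first | exact hr | exact hs | exact hx | exact hy | exact hc | exact ha | exact hb | exact hg |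
      exact hd | exact (col_e A _).trans (col_e B _).symm | exact (row_f A _).trans (row_f B _).symm

theorem co_mul (A B : Se F) : co (A * B) = (co A).mul (co B) := by
  have hr := entry_r A
  have hs := entry_s A
  simp only [co] at hr hs
  ext <;>
    simp only [co, Co.mul, Subgroup.coe_mul, Submonoid.coe_mul, Matrix.mul_apply,
      Fintype.sum_sum_type, Fin.sum_univ_two, col_e, row_f, hr, hs] <;>
    simp [e₀] <;> ring

theorem co_one : co (1 : Se F) = ⟨0, 0, 0, 1, 0, 0, 1⟩ := by ext <;> simp [co]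

/-- The matrix with given coordinates. -/
def coMat (u : Co F) : Matrix (Fin 2 ⊕ Fin 2) (Fin 2 ⊕ Fin 2) F :=
  Matrix.fromBlocks !![1, u.x * u.g - u.y * u.a; 0, u.a] !![u.c, u.x * u.d - u.y * u.b; u.x, u.b]
    !![0, 0; 0, u.g] !![1, 0; u.y, u.d]

/-- The element with given coordinates. -/
def ofCo (u : Co F) (h : u.a * u.d - u.b * u.g = 1) : Se F :=
  ⟨⟨coMat u, mem_symplecticGroup_iff_form.2 fun v w => by
      simp only [form_four, coMat, Matrix.mulVec, dotProduct, Fintype.sum_sum_type, Fin.sum_univ_two,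
        Matrix.fromBlocks_apply₁₁, Matrix.fromBlocks_apply₁₂, Matrix.fromBlocks_apply₂₁,
        Matrix.fromBlocks_apply₂₂, Matrix.of_apply, Matrix.cons_val_zero, Matrix.cons_val_one]
      linear_combination (v (Sum.inr 1) * w (Sum.inl 1) - v (Sum.inl 1) * w (Sum.inr 1)) * h⟩, by
    funext k
    rw [show coMat u *ᵥ e₀ = _ from Matrix.mulVec_single_one (coMat u) (Sum.inl 0)]
    rcases k with k | k <;> fin_cases k <;> simp [coMat, e₀, Matrix.col]⟩

theorem co_ofCo (u : Co F) (h : u.a * u.d - u.b * u.g = 1) : co (ofCo u h) = u := by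
  ext <;> simp [co, ofCo, coMat]

/-- The element `(x, 0, c; 1, b, 0, 1)` of the large abelian subgroup. -/
def mA (x c b : F) : Se F := ofCo ⟨x, 0, c, 1, b, 0, 1⟩ (by ring)

/-- The unipotent element complementing the large abelian subgroup. -/
def mU (y : F) : Se F := ofCo ⟨0, y, 0, 1, 0, 0, 1⟩ (by ring)

/-- The torus element. -/
def mT (a : Fˣ) : Se F := ofCo ⟨0, 0, 0, a, 0, 0, (a⁻¹ : Fˣ)⟩ (by simp)

theorem co_mA (x c b : F) : co (mA x c b) = ⟨x, 0, c, 1, b, 0, 1⟩ := co_ofCo _ _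

theorem co_mU (y : F) : co (mU y) = ⟨0, y, 0, 1, 0, 0, 1⟩ := co_ofCo _ _

theorem co_mT (a : Fˣ) : co (mT a) = ⟨0, 0, 0, a, 0, 0, (a⁻¹ : Fˣ)⟩ := co_ofCo _ _

theorem mA_mul (x c b x' c' b' : F) : mA x c b * mA x' c' b' = mA (x + x') (c + c') (b + b') := by
  apply co_injective
  rw [co_mul, co_mA, co_mA, co_mA]
  ext <;> simp [Co.mul] <;> ring

theorem mA_zero : mA 0 0 0 = (1 : Se F) := co_injective (by rw [co_mA, co_one])

theorem mA_inj {x c b x' c' b' : F} (h : mA x c b = mA x' c' b') : x = x' ∧ c = c' ∧ b = b' := by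
  have h' := congrArg co h
  rw [co_mA, co_mA] at h'
  exact ⟨congrArg Co.x h', congrArg Co.c h', congrArg Co.b h'⟩

theorem mU_mul (y y' : F) : mU y * mU y' = mU (y + y') := by
  apply co_injective
  rw [co_mul, co_mU, co_mU, co_mU]
  ext <;> simp [Co.mul]

theorem mU_zero : mU 0 = (1 : Se F) := co_injective (by rw [co_mU, co_one])

theorem mT_mul (a a' : Fˣ) : mT a * mT a' = mT (a * a') := by
  apply co_injective
  rw [co_mul, co_mT, co_mT, co_mT]
  ext <;> simp [Co.mul, mul_comm]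

theorem mT_one : mT 1 = (1 : Se F) := co_injective (by rw [co_mT, co_one]; simp)

theorem mU_conj (y : F) (u w b : F) :
    mU y * mA u w b = mA (u - b * y) (w - 2 * u * y + b * y ^ 2) b * mU y := by
  apply co_injective
  rw [co_mul, co_mul, co_mA, co_mA, co_mU]
  ext <;> simp [Co.mul] <;> ring

theorem mT_conj (a : Fˣ) (u w b : F) :
    mT a * mA u w b = mA ((a : F) * u) w ((a : F) ^ 2 * b) * mT a := by
  apply co_injective
  rw [co_mul, co_mul, co_mA, co_mA, co_mT]
  ext <;> simp [Co.mul, pow_two]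
  field_simp

theorem mT_mU (a : Fˣ) (y : F) : mT a * mU y = mU ((a⁻¹ : Fˣ) * y) * mT a := by
  apply co_injective
  rw [co_mul, co_mul, co_mU, co_mU, co_mT]
  ext <;> simp [Co.mul]

theorem mA_central (k : F) (A : Se F) : A * mA 0 k 0 = mA 0 k 0 * A := by
  apply co_injective
  rw [co_mul, co_mul, co_mA]
  ext <;> simp [Co.mul] <;> ring

variable (F) in
/-- The large abelian subgroup. -/
def AM : Subgroup (Se F) where
  carrier := {A | ∃ x c b, A = mA x c b}
  one_mem' := ⟨0, 0, 0, mA_zero.symm⟩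
  mul_mem' := by
    rintro _ _ ⟨x, c, b, rfl⟩ ⟨x', c', b', rfl⟩
    exact ⟨_, _, _, mA_mul x c b x' c' b'⟩
  inv_mem' := by
    rintro _ ⟨x, c, b, rfl⟩
    exact ⟨-x, -c, -b, inv_eq_of_mul_eq_one_right (by rw [mA_mul]; simp [mA_zero])⟩

theorem mA_mem (x c b : F) : mA x c b ∈ AM F := ⟨x, c, b, rfl⟩

theorem mem_AM {A : Se F} :
    A ∈ AM F ↔ (co A).y = 0 ∧ (co A).a = 1 ∧ (co A).g = 0 ∧ (co A).d = 1 := by
  constructor
  · rintro ⟨x, c, b, rfl⟩
    simp [co_mA]
  · rintro ⟨hy, ha, hg, hd⟩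
    exact ⟨(co A).x, (co A).c, (co A).b, co_injective (by rw [co_mA]; ext <;> simp [hy, ha, hg, hd])⟩

variable (F) in
/-- The standard Sylow subgroup. -/
def P₀ : Subgroup (Se F) where
  carrier := {A | (co A).a = 1 ∧ (co A).g = 0 ∧ (co A).d = 1}
  one_mem' := by simp [co_one]
  mul_mem' {A B} hA hB := by
    obtain ⟨h1, h2, h3⟩ := hA
    obtain ⟨k1, k2, k3⟩ := hB
    simp only [Set.mem_ofPred_eq, co_mul, Co.mul]
    simp [h1, h2, h3, k1, k2, k3]
  inv_mem' {A} hA := by
    obtain ⟨h1, h2, h3⟩ := hA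
    have h := congrArg co (mul_inv_cancel A)
    rw [co_mul, co_one] at h
    have e1 := congrArg Co.a h
    have e2 := congrArg Co.g h
    have e3 := congrArg Co.d h
    simp only [Co.mul, h1, h2, h3, one_mul, zero_mul, zero_add] at e1 e2 e3
    rw [e2, mul_zero, add_zero] at e1
    exact ⟨e1, e2, e3⟩

theorem mem_P₀ {A : Se F} : A ∈ P₀ F ↔ (co A).a = 1 ∧ (co A).g = 0 ∧ (co A).d = 1 := Iff.rfl

theorem mU_mem (y : F) : mU y ∈ P₀ F := by simp [mem_P₀, co_mU]

theorem AM_le_P₀ : AM F ≤ P₀ F := fun _ hA => (mem_AM.1 hA).2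

/-- The elements with `γ = 0`, factored. -/
theorem exists_factor {A : Se F} (hg : (co A).g = 0) :
    ∃ (m : Se F) (y : F) (a : Fˣ), m ∈ AM F ∧ A = m * mU y * mT a := by
  have hdet := co_det A
  rw [hg, mul_zero, sub_zero] at hdet
  let a : Fˣ := ⟨(co A).a, (co A).d, hdet, by rw [mul_comm, hdet]⟩
  refine ⟨mA ((co A).x - (co A).b * (co A).a * (co A).y)
      ((co A).c - (co A).y * ((co A).x - (co A).b * (co A).a * (co A).y)) ((co A).b * (co A).a),
    (co A).y, a, mA_mem _ _ _, co_injective ?_⟩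
  rw [co_mul, co_mul, co_mA, co_mU, co_mT]
  have hinv : ((a⁻¹ : Fˣ) : F) = (co A).d := rfl
  rw [hinv]
  ext <;> simp [Co.mul, hg, a] <;> linear_combination (-(co A).b) * hdet

theorem P₀_factor {A : Se F} (hA : A ∈ P₀ F) : ∃ (m : Se F) (y : F), m ∈ AM F ∧ A = m * mU y := by
  obtain ⟨ha, hg, hd⟩ := hA
  obtain ⟨m, y, a, hm, rfl⟩ := exists_factor hg
  obtain ⟨x', c', b', rfl⟩ := hm
  refine ⟨_, y, mA_mem x' c' b', ?_⟩
  have h : (a : F) = 1 := by simpa [co_mul, co_mA, co_mU, co_mT, Co.mul] using ha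
  rw [Units.val_eq_one.1 h, mT_one, mul_one]

theorem conj_AM {A : Se F} (hg : (co A).g = 0) {m : Se F} (hm : m ∈ AM F) : A * m * A⁻¹ ∈ AM F := by
  obtain ⟨m₀, y, a, hm₀, rfl⟩ := exists_factor hg
  obtain ⟨x, c, b, rfl⟩ := hm
  have h1 : mT a * mA x c b * (mT a)⁻¹ = mA ((a : F) * x) c ((a : F) ^ 2 * b) := by
    rw [mul_inv_eq_iff_eq_mul, mT_conj]
  have h2 : ∀ u w v : F, mU y * mA u w v * (mU y)⁻¹ = mA (u - v * y) (w - 2 * u * y + v * y ^ 2) v :=
    fun u w v => by rw [mul_inv_eq_iff_eq_mul, mU_conj]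
  have h : m₀ * mU y * mT a * mA x c b * (m₀ * mU y * mT a)⁻¹ =
      m₀ * (mU y * (mT a * mA x c b * (mT a)⁻¹) * (mU y)⁻¹) * m₀⁻¹ := by group
  rw [h, h1, h2]
  exact mul_mem (mul_mem hm₀ (mA_mem _ _ _)) (inv_mem hm₀)

theorem g_eq_zero_of_normalizes {A : Se F} (h : ∀ m ∈ AM F, A * m * A⁻¹ ∈ AM F) : (co A).g = 0 := by
  obtain ⟨x, c, b, he⟩ := h _ (mA_mem 0 0 1)
  rw [mul_inv_eq_iff_eq_mul] at he
  have h1 := congrArg (fun B => (co B).d) he
  simp [co_mul, co_mA, Co.mul] at h1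
  exact h1

theorem mem_AM_of_comm {A : Se F} (h2 : (2 : F) ≠ 0) (h : ∀ m ∈ AM F, A * m = m * A) : A ∈ AM F := by
  have e1 := congrArg co (h _ (mA_mem 1 0 0))
  have e2 := congrArg co (h _ (mA_mem 0 0 1))
  rw [co_mul, co_mul, co_mA] at e1
  rw [co_mul, co_mul, co_mA] at e2
  have ha : (co A).a = 1 := by
    have h := congrArg Co.x e1
    simp [Co.mul] at h
    linear_combination h
  have hg : (co A).g = 0 := by
    have h := congrArg Co.y e1
    simp [Co.mul] at h
    linear_combination h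
  have hd : (co A).d = 1 := by
    have := co_det A
    rw [ha, hg] at this
    linear_combination this
  have hy : (co A).y = 0 := by
    have h := congrArg Co.c e1
    simp [Co.mul, ha, hg] at h
    exact (mul_eq_zero.1 (show (2 : F) * (co A).y = 0 by linear_combination -h)).resolve_left h2
  exact mem_AM.2 ⟨hy, ha, hg, hd⟩

theorem eq_central_of_comm {A : Se F} (h2 : (2 : F) ≠ 0) (h : ∀ m ∈ P₀ F, A * m = m * A) :
    ∃ k, A = mA 0 k 0 := by
  obtain ⟨x, c, b, rfl⟩ := mem_AM_of_comm h2 (fun m hm => h m (AM_le_P₀ hm))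
  refine ⟨c, ?_⟩
  have e := (h _ (mU_mem 1)).symm
  rw [mU_conj, mul_left_inj] at e
  obtain ⟨e1, e2, -⟩ := mA_inj e
  have hb : b = 0 := by linear_combination -e1
  have hx : x = 0 := (mul_eq_zero.1 (show (2 : F) * x = 0 by linear_combination -e2 + hb)).resolve_left h2
  rw [hx, hb]

section Finite

variable [Fintype F]

theorem card_AM : Nat.card (AM F) = Fintype.card F ^ 3 := by
  have hb : Function.Bijective (fun v : F × F × F => (⟨mA v.1 v.2.1 v.2.2, mA_mem _ _ _⟩ : AM F)) := by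
    constructor
    · rintro ⟨x, c, b⟩ ⟨x', c', b'⟩ h
      obtain ⟨rfl, rfl, rfl⟩ := mA_inj (congrArg Subtype.val h)
      rfl
    · rintro ⟨A, x, c, b, rfl⟩
      exact ⟨(x, c, b), rfl⟩
  rw [← Nat.card_congr (Equiv.ofBijective _ hb), Nat.card_prod, Nat.card_prod, Nat.card_eq_fintype_card]
  ring

theorem card_P₀ : Nat.card (P₀ F) = Fintype.card F ^ 4 := by
  have hb : Function.Bijective (fun v : F × AM F =>
      (⟨(v.2 : Se F) * mU v.1, mul_mem (AM_le_P₀ v.2.2) (mU_mem v.1)⟩ : P₀ F)) := by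
    constructor
    · rintro ⟨y, ⟨m, hm⟩⟩ ⟨y', ⟨m', hm'⟩⟩ h
      have h0 : m * mU y = m' * mU y' := congrArg Subtype.val h
      have h1 := congrArg (fun B => (co B).y) h0
      obtain ⟨x, c, b, rfl⟩ := hm
      obtain ⟨x', c', b', rfl⟩ := hm'
      simp [co_mul, co_mA, co_mU, Co.mul] at h1
      subst h1
      rw [mul_left_inj] at h0
      simp [h0]
    · rintro ⟨A, hA⟩
      obtain ⟨m, y, hm, rfl⟩ := P₀_factor hA
      exact ⟨(y, ⟨m, hm⟩), rfl⟩
  rw [← Nat.card_congr (Equiv.ofBijective _ hb), Nat.card_prod, card_AM, Nat.card_eq_fintype_card]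
  ring

variable {p n : ℕ} [Fact p.Prime]

theorem isPGroup_P₀ (hF : Fintype.card F = p ^ n) : IsPGroup p (P₀ F) :=
  IsPGroup.of_card (n := n * 4) (by rw [card_P₀, hF, pow_mul])

/-- Every `p`-subgroup is conjugate into the standard Sylow subgroup. -/
theorem exists_conj_le_P₀ (hn : 1 ≤ n) (hF : Fintype.card F = p ^ n) (Q : Subgroup (Se F))
    (hQ : IsPGroup p Q) : ∃ s : Se F, ∀ A ∈ Q, s⁻¹ * A * s ∈ P₀ F := by
  classical
  letI : MulAction Q (F × F) :=
    { smul := fun A v => ((co A.1).a * v.1 + (co A.1).b * v.2, (co A.1).g * v.1 + (co A.1).d * v.2)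
      one_smul := fun v => by
        change ((co (1 : Se F)).a * v.1 + (co (1 : Se F)).b * v.2,
          (co (1 : Se F)).g * v.1 + (co (1 : Se F)).d * v.2) = v
        simp [co_one]
      mul_smul := fun A B v => by
        change ((co (A.1 * B.1)).a * v.1 + (co (A.1 * B.1)).b * v.2,
            (co (A.1 * B.1)).g * v.1 + (co (A.1 * B.1)).d * v.2) =
          ((co A.1).a * ((co B.1).a * v.1 + (co B.1).b * v.2) +
              (co A.1).b * ((co B.1).g * v.1 + (co B.1).d * v.2),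
            (co A.1).g * ((co B.1).a * v.1 + (co B.1).b * v.2) +
              (co A.1).d * ((co B.1).g * v.1 + (co B.1).d * v.2))
        simp only [co_mul, Co.mul]
        ext <;> ring }
  have h0 : ((0, 0) : F × F) ∈ MulAction.fixedPoints Q (F × F) := fun A => by
    change (_, _) = ((0, 0) : F × F)
    simp
  have hcard : p ∣ Nat.card (F × F) := by
    rw [Nat.card_prod, Nat.card_eq_fintype_card, hF]
    exact (dvd_pow_self p (by omega)).mul_right _
  obtain ⟨⟨v₀, v₁⟩, hv, hne⟩ :=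
    hQ.exists_fixed_point_of_prime_dvd_card_of_fixed_point (α := F × F) hcard h0
  obtain ⟨β, δ, hdet⟩ : ∃ β δ : F, v₀ * δ - β * v₁ = 1 := by
    by_cases h : v₀ = 0
    · have h1 : v₁ ≠ 0 := fun h1 => hne (by rw [h, h1])
      exact ⟨-v₁⁻¹, 0, by rw [h]; field_simp; ring⟩
    · exact ⟨0, v₀⁻¹, by field_simp; ring⟩
  refine ⟨ofCo ⟨0, 0, 0, v₀, β, v₁, δ⟩ hdet, fun A hA => ?_⟩
  set s := ofCo ⟨0, 0, 0, v₀, β, v₁, δ⟩ hdet with hs
  have hfix := hv ⟨A, hA⟩
  change ((co A).a * v₀ + (co A).b * v₁, (co A).g * v₀ + (co A).d * v₁) = (v₀, v₁) at hfix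
  rw [Prod.mk.injEq] at hfix
  obtain ⟨B, hB⟩ : ∃ B : Se F, B = s⁻¹ * A * s := ⟨_, rfl⟩
  have h2 : co (s * B) = co (A * s) := by rw [hB, ← mul_assoc, ← mul_assoc, mul_inv_cancel, one_mul]
  rw [co_mul, co_mul, hs, co_ofCo] at h2
  have ea := congrArg Co.a h2
  have eg := congrArg Co.g h2
  simp only [Co.mul] at ea eg
  rw [hfix.1] at ea
  rw [hfix.2] at eg
  have ha : (co B).a = 1 := by linear_combination δ * ea - β * eg + (1 - (co B).a) * hdet
  have hg : (co B).g = 0 := by linear_combination v₀ * eg - v₁ * ea - (co B).g * hdet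
  rw [← hB]
  refine ⟨ha, hg, ?_⟩
  have hd := co_det B
  rw [ha, hg] at hd
  linear_combination hd

theorem map_P₀_eq {s : Se F} {Q : Sylow p (Se F)} (hF : Fintype.card F = p ^ n)
    (h : ∀ A ∈ (Q : Subgroup (Se F)), s⁻¹ * A * s ∈ P₀ F) :
    (Q : Subgroup (Se F)) = (P₀ F).map (MulAut.conj s).toMonoidHom := by
  refine (Q.is_maximal' ((isPGroup_P₀ hF).map _) fun A hA => ?_).symm
  exact ⟨_, h A hA, by simp [mul_assoc]⟩

/-- An abelian subgroup of order `q ^ 3` of the standard Sylow subgroup is the large abelian subgroup. -/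
theorem eq_AM (h2 : (2 : F) ≠ 0) (M : Subgroup (Se F)) (hMP : M ≤ P₀ F)
    (hc : ∀ a ∈ M, ∀ b ∈ M, a * b = b * a) (hcard : Nat.card M = Fintype.card F ^ 3) : M = AM F := by
  have hcomm : ∀ a ∈ M, ∀ b ∈ M, (co a).b * (co b).y = (co b).b * (co a).y ∧
      2 * ((co a).x * (co b).y - (co b).x * (co a).y) =
        (co a).y * (co b).y * ((co a).b - (co b).b) := by
    intro a ha b hb
    obtain ⟨a1, a2, a3⟩ := hMP ha
    obtain ⟨b1, b2, b3⟩ := hMP hb
    have h := congrArg co (hc a ha b hb)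
    rw [co_mul, co_mul] at h
    have e1 := congrArg Co.x h
    have e2 := congrArg Co.c h
    simp only [Co.mul, a1, a2, a3, b1, b2, b3] at e1 e2
    exact ⟨by linear_combination e1, by linear_combination e2⟩
  have hy : ∀ a ∈ M, (co a).y = 0 := by
    intro a ha
    by_contra hne
    have hinj : Function.Injective (fun b : M => ((co b.1).x, (co b.1).y, (co b.1).c)) := by
      rintro ⟨b, hb⟩ ⟨b', hb'⟩ h
      simp only [Prod.mk.injEq] at h
      obtain ⟨b1, b2, b3⟩ := hMP hb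
      obtain ⟨c1, c2, c3⟩ := hMP hb'
      have h1 := (hcomm a ha b hb).1
      have h2 := (hcomm a ha b' hb').1
      rw [h.2.1] at h1
      refine Subtype.ext (co_injective (Co.ext h.1 h.2.1 h.2.2 (b1.trans c1.symm) ?_
        (b2.trans c2.symm) (b3.trans c3.symm)))
      exact mul_right_cancel₀ hne (h1.symm.trans h2)
    have hbij : Function.Bijective (fun b : M => ((co b.1).x, (co b.1).y, (co b.1).c)) := by
      rw [Nat.bijective_iff_injective_and_card]
      refine ⟨hinj, ?_⟩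
      rw [hcard, Nat.card_prod, Nat.card_prod, Nat.card_eq_fintype_card]
      ring
    obtain ⟨⟨b, hb⟩, he⟩ := hbij.2 (1, 0, 0)
    simp only [Prod.mk.injEq] at he
    have h := (hcomm a ha b hb).2
    rw [he.1, he.2.1] at h
    exact hne ((mul_eq_zero.1 (show (2 : F) * (co a).y = 0 by linear_combination -h)).resolve_left h2)
  refine Subgroup.eq_of_le_of_card_ge (fun a ha => ?_) (by rw [card_AM, hcard])
  obtain ⟨a1, a2, a3⟩ := hMP ha
  exact mem_AM.2 ⟨hy a ha, a1, a2, a3⟩

end Finite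

end CfsgLib.PSpLocal
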